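import Cfsg.Agent.Lib.ClassCount.Orthogonal.Tup
import Cfsg.Agent.Lib.Classical.Quad.Sym

/-!
# Single block subspaces of a skew nilpotent map of a symmetric space

If all invariant nondegenerate subspaces of odd dimension have one discriminant, each odd block size
occurs at most once and its sign is determined.
-/

set_option autoImplicit false

namespace CfsgLib.ClassNumber

open LinearMap (BilinForm)
open Matrix
open scoped _root_.Classical
open CfsgLib.Classical CfsgLib.Classical.ClassTheory

universe u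

variable {F : Type u} [Field F] [Fintype F] {V : Type u} [AddCommGroup V] [Module F V] [FiniteDimensional F V]

/-- The determinant of the signed anti-diagonal matrix of size `j`. -/
noncomputable def chainConst (F : Type u) [Field F] (j : ℕ) : F :=
  ((Equiv.Perm.sign (Fin.revPerm : Equiv.Perm (Fin j)) : ℤ) : F) * ∏ a : Fin j, (-1 : F) ^ (a : ℕ)

theorem chainConst_ne_zero (F : Type u) [Field F] (j : ℕ) : chainConst F j ≠ 0 := by
  refine mul_ne_zero ?_ (Finset.prod_ne_zero_iff.2 fun a _ => pow_ne_zero _ (neg_ne_zero.2 one_ne_zero))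
  rcases Int.units_eq_one_or (Equiv.Perm.sign (Fin.revPerm : Equiv.Perm (Fin j))) with h | h <;> simp [h]

/-- All invariant nondegenerate subspaces of odd dimension have the discriminant `κ`. -/
def GoodFor (B : BilinForm F V) (T : Module.End F V) (κ : ℤ) : Prop :=
  ∀ W : Submodule F V, (∀ v ∈ W, T v ∈ W) → (B.restrict W).Nondegenerate → Odd (Module.finrank F W) →
    discChar (B.restrict W) = κ

omit [Fintype F] [FiniteDimensional F V] in
theorem skew_pow {B : BilinForm F V} {N : Module.End F V} (hskew : ∀ u v, B (N u) v = -B u (N v)) (a : ℕ) :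
    ∀ u v, B ((N ^ a) u) v = (-1) ^ a * B u ((N ^ a) v) := by
  induction a with
  | zero => intro u v; simp
  | succ a ih =>
    intro u v
    rw [pow_succ', Module.End.mul_apply, hskew, ih, ← Module.End.mul_apply, ← pow_succ, ← pow_succ', pow_succ (-1 : F)]
    ring

/-- The subspace spanned by a chain. -/
theorem exists_chain_subspace {B : BilinForm F V} {N : Module.End F V} (hskew : ∀ u v, B (N u) v = -B u (N v))
    {v : V} {j : ℕ} (hj0 : 0 < j) (hj : (N ^ j) v = 0) (hr : B v ((N ^ (j - 1)) v) ≠ 0) :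
    ∃ W : Submodule F V, (∀ w ∈ W, N w ∈ W) ∧ (B.restrict W).Nondegenerate ∧ Module.finrank F W = j ∧
      discChar (B.restrict W) = quadraticChar F (chainConst F j * B v ((N ^ (j - 1)) v) ^ j) := by
  set r := B v ((N ^ (j - 1)) v) with hrdef
  have hhi : ∀ e, j ≤ e → (N ^ e) v = 0 := fun e he => by
    rw [show e = e - j + j by omega, pow_add, Module.End.mul_apply, hj, map_zero]
  let M : Matrix (Fin j) (Fin j) F := Matrix.of fun a b => B ((N ^ (a : ℕ)) v) ((N ^ (b : ℕ)) v)
  have hMe : ∀ a b : Fin j, M a b = (-1) ^ (a : ℕ) * B v ((N ^ ((a : ℕ) + b)) v) := fun a b => by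
    show B ((N ^ (a : ℕ)) v) ((N ^ (b : ℕ)) v) = _
    rw [skew_pow hskew, ← Module.End.mul_apply, ← pow_add]
  have hdet : M.det = chainConst F j * r ^ j := by
    have htri : (M.submatrix id (Fin.revPerm : Equiv.Perm (Fin j))).BlockTriangular id := by
      intro a b (hab : b < a)
      rw [Matrix.submatrix_apply, hMe, Fin.revPerm_apply, Fin.val_rev, id, hhi _ (by
        have := Fin.lt_def.1 hab
        omega), map_zero, mul_zero]
    have h1 := Matrix.det_permute' (Fin.revPerm : Equiv.Perm (Fin j)) M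
    rw [Matrix.det_of_isUpperTriangular htri] at h1
    have hdiag : ∀ a : Fin j, M.submatrix id (Fin.revPerm : Equiv.Perm (Fin j)) a a = (-1) ^ (a : ℕ) * r := fun a => by
      rw [Matrix.submatrix_apply, hMe, Fin.revPerm_apply, Fin.val_rev, id,
        show (a : ℕ) + (j - ((a : ℕ) + 1)) = j - 1 by omega]
    simp only [hdiag, Finset.prod_mul_distrib, Finset.prod_const, Finset.card_univ, Fintype.card_fin] at h1
    have hs : ((Equiv.Perm.sign (Fin.revPerm : Equiv.Perm (Fin j)) : ℤ) : F) *
        ((Equiv.Perm.sign (Fin.revPerm : Equiv.Perm (Fin j)) : ℤ) : F) = 1 := by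
      rw [← Int.cast_mul, ← Units.val_mul, Int.units_mul_self, Units.val_one, Int.cast_one]
    rw [chainConst, mul_assoc, h1, ← mul_assoc, hs, one_mul]
  have hMdet : M.det ≠ 0 := by
    rw [hdet]
    exact mul_ne_zero (chainConst_ne_zero F j) (pow_ne_zero _ hr)
  let L : (Fin j → F) →ₗ[F] V := Fintype.linearCombination F fun a : Fin j => (N ^ (a : ℕ)) v
  have hB : ∀ x y, B (L x) (L y) = x ⬝ᵥ M *ᵥ y := fun x y => by
    simp only [L, Fintype.linearCombination_apply, map_sum, map_smul, LinearMap.sum_apply, LinearMap.smul_apply,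
      smul_eq_mul, dotProduct, Matrix.mulVec, M, Matrix.of_apply, Finset.mul_sum]
    rw [Finset.sum_comm]
    refine Finset.sum_congr rfl fun a _ => Finset.sum_congr rfl fun b _ => ?_
    ring
  have hker : ∀ x, (∀ y, x ⬝ᵥ M *ᵥ y = 0) → x = 0 := fun x hx => by
    by_contra h0
    refine hMdet (Matrix.exists_vecMul_eq_zero_iff.1 ⟨x, h0, funext fun b => ?_⟩)
    have := hx (Pi.single b 1)
    rwa [Matrix.dotProduct_mulVec, dotProduct_single, mul_one] at this
  have hinj : Function.Injective L := by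
    rw [← LinearMap.ker_eq_bot, LinearMap.ker_eq_bot']
    exact fun x hx => hker x fun y => by rw [← hB, hx, map_zero, LinearMap.zero_apply]
  let e : LinearMap.range L ≃ₗ[F] (Fin j → F) := (LinearEquiv.ofInjective L hinj).symm
  have hL : ∀ w : LinearMap.range L, L (e w) = w := fun w =>
    congrArg Subtype.val ((LinearEquiv.ofInjective L hinj).apply_symm_apply w)
  have hform : ∀ u w, (B.restrict (LinearMap.range L)) u w = e u ⬝ᵥ M *ᵥ e w := fun u w => by
    rw [← hB, hL, hL]; rfl
  refine ⟨LinearMap.range L, ?_, ⟨fun u hu => ?_, fun u hu => ?_⟩, ?_, ?_⟩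
  · rintro _ ⟨x, rfl⟩
    simp only [L, Fintype.linearCombination_apply, map_sum, map_smul, ← Module.End.mul_apply, ← pow_succ']
    refine Submodule.sum_mem _ fun a _ => Submodule.smul_mem _ _ ?_
    by_cases ha : (a : ℕ) + 1 < j
    · exact ⟨Pi.single ⟨(a : ℕ) + 1, ha⟩ 1, by simp [Fintype.linearCombination_apply, Pi.single_apply, ite_smul]⟩
    · rw [hhi _ (by omega)]; exact Submodule.zero_mem _
  · refine e.injective ((hker _ fun y => ?_).trans (map_zero e).symm)
    have := hu (e.symm y)
    rwa [hform, e.apply_symm_apply] at this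
  · refine e.injective ?_
    rw [map_zero]
    by_contra h0
    refine hMdet (Matrix.exists_mulVec_eq_zero_iff.1 ⟨_, h0, funext fun a => ?_⟩)
    have := hu (e.symm (Pi.single a 1))
    rwa [hform, e.apply_symm_apply, single_dotProduct, one_mul] at this
  · rw [e.finrank_eq, Module.finrank_pi, Fintype.card_fin]
  · rw [discChar_eq _ e M hform, hdet]

/-- The consequences of `GoodFor` on signed partitions. -/
theorem HasSignO.of_goodFor (h2 : (2 : F) ≠ 0) {B : BilinForm F V} {N : Module.End F V} {μ : Multiset ℕ}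
    {S : Finset ℕ} (h : HasSignO B N μ S) {κ : ℤ} (hgood : GoodFor B N κ) {j : ℕ} (hjo : Odd j) (hj : j ∈ μ) :
    μ.count j = 1 ∧ (j ∈ S ↔ κ * quadraticChar F (chainConst F j) = -1) := by
  obtain ⟨hpos, -, -, -, e, c, he, heB, hca, hcu, hcs⟩ := h
  have hd : ∀ k, 1 ≤ (blockFun μ) k := fun k => hpos _ (blockFun_mem _ k)
  have hskew : ∀ u v, B (N u) v = -B u (N v) := fun u v => by
    rw [heB, heB, he, he, Matrix.mulVec_mulVec, skMat_commute, Matrix.neg_mulVec, ← Matrix.mulVec_mulVec,
      dotProduct_neg, neg_neg, Matrix.dotProduct_mulVec (e u) (nilMat (blockFun μ) F)ᵀ, Matrix.vecMul_transpose]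
  obtain ⟨k₀, hk₀⟩ := List.get_of_mem (Multiset.mem_toList.2 hj)
  have hk₀' : (blockFun μ) k₀ = j := hk₀
  set i : Fin (Finset.univ.sup (blockFun μ) + 1) := ⟨j, hk₀' ▸ d_lt_bound (blockFun μ) k₀⟩
  have hj0 : 0 < j := hpos _ hj
  -- the chains
  have hstep : ∀ (k : Fin μ.toList.length) (a : ℕ) (ha : a < (blockFun μ) k),
      nilMat (blockFun μ) F *ᵥ Pi.single ⟨k, ⟨a, ha⟩⟩ 1 =
        if h : a + 1 < (blockFun μ) k then Pi.single ⟨k, ⟨a + 1, h⟩⟩ 1 else 0 := by
    intro k a ha
    funext x
    obtain ⟨l, b⟩ := x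
    rw [Matrix.mulVec_single_one, Matrix.col_apply, nilMat, Matrix.of_apply]
    split_ifs with h1 h3 h4
    · obtain ⟨rfl, h1⟩ := h1
      rw [show b = ⟨a + 1, h3⟩ from Fin.ext h1, Pi.single_eq_same]
    · obtain ⟨rfl, h1⟩ := h1
      have hb : (b : ℕ) = a + 1 := h1
      have := b.2
      dsimp only at *
      omega
    · rw [Pi.single_eq_of_ne]
      intro h
      obtain ⟨rfl, hb⟩ := Sigma.mk.inj_iff.1 h
      exact h1 ⟨rfl, congrArg Fin.val (eq_of_heq hb)⟩
    · rfl
  let w : JBlk (blockFun μ) i → V := fun k => e.symm (Pi.single (botIdx (blockFun μ) hd k.1) 1)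
  have hpow : ∀ (k : JBlk (blockFun μ) i) (a : ℕ) (ha : a < j),
      e ((N ^ a) (w k)) = Pi.single ⟨k.1, ⟨a, lt_of_lt_of_eq ha k.2.symm⟩⟩ 1 := by
    intro k a
    induction a with
    | zero => intro ha; rw [pow_zero, Module.End.one_apply, e.apply_symm_apply]; rfl
    | succ a ih =>
      intro ha
      rw [pow_succ', Module.End.mul_apply, he, ih (by omega), hstep, dif_pos]
  have hwj : ∀ k, (N ^ j) (w k) = 0 := fun k => by
    apply e.injective
    rw [map_zero, show j = j - 1 + 1 by omega, pow_succ', Module.End.mul_apply, he, hpow k (j - 1) (by omega),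
      hstep, dif_neg]
    have : (blockFun μ) k.1 = j := k.2
    omega
  have hval : ∀ k l : JBlk (blockFun μ) i, B (w k) ((N ^ (j - 1)) (w l)) = topBlk (blockFun μ) c i k l := fun k l => by
    rw [heB, hpow l (j - 1) (by omega), e.apply_symm_apply, Matrix.mulVec_single_one, single_dotProduct, one_mul,
      Matrix.col_apply, ← skMat_corner (blockFun μ) hd c k l]
    congr 2
    exact Fin.ext (by simp [l.2, i])
  set T := topBlk (blockFun μ) c i
  have hT0 : T.det ≠ 0 := (isUnit_skMat (blockFun μ) hd c).1 hcu i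
  have hTt : Tᵀ = T := by
    have := topBlk_transpose_symm (blockFun μ) hd hca i
    rwa [show (i : ℕ) = j from rfl, hjo.neg_one_pow, neg_neg, one_smul] at this
  -- every value of the top block gives a discriminant
  have hdisc : ∀ x : JBlk (blockFun μ) i → F, x ⬝ᵥ T *ᵥ x ≠ 0 →
      quadraticChar F (chainConst F j) * quadraticChar F (x ⬝ᵥ T *ᵥ x) = κ := by
    intro x hx
    set v := ∑ k, x k • w k
    have hv : (N ^ j) v = 0 := by simp [v, map_sum, hwj]
    have hr : B v ((N ^ (j - 1)) v) = x ⬝ᵥ T *ᵥ x := by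
      simp only [v, map_sum, map_smul, LinearMap.sum_apply, LinearMap.smul_apply, smul_eq_mul, hval, dotProduct,
        Matrix.mulVec, Finset.mul_sum]
      rw [Finset.sum_comm]
      refine Finset.sum_congr rfl fun a _ => Finset.sum_congr rfl fun b _ => ?_
      ring
    obtain ⟨W, hW, hWn, hWd, hdc⟩ := exists_chain_subspace hskew hj0 hv (by rw [hr]; exact hx)
    rw [hr] at hdc
    rw [← hgood W hW hWn (by rw [hWd]; exact hjo), hdc, map_mul]
    obtain ⟨l, hl⟩ := hjo
    rw [hl, pow_succ, pow_mul, map_mul (quadraticChar F) ((_ ^ 2) ^ l), map_pow, quadraticChar_sq_one' hx, one_pow,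
      one_mul]
  have hcard : Fintype.card (JBlk (blockFun μ) i) = μ.count j := by
    rw [Fintype.card_subtype, ← count_sizes (blockFun μ), sizes_blockFun]
  have hone : μ.count j = 1 := by
    by_contra hne
    have h2c : 2 ≤ Fintype.card (JBlk (blockFun μ) i) := by
      have := Multiset.one_le_count_iff_mem.2 hj
      omega
    obtain ⟨ν, hν⟩ := quadraticChar_exists_neg_one (F := F) (fun h => h2 (by
      have := ringChar.Nat.cast_ringChar (R := F)
      rw [h] at this
      exact_mod_cast this))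
    have hrep : ∀ a : F, a ≠ 0 → ∃ x : JBlk (blockFun μ) i → F, x ⬝ᵥ T *ᵥ x = a := by
      intro a ha
      have hnd : (a⁻¹ • Matrix.toBilin' T).Nondegenerate := by
        have h := Matrix.nondegenerate_toBilin'_iff.2 (Matrix.nondegenerate_of_det_ne_zero hT0)
        have hne := inv_ne_zero ha
        exact ⟨fun u hu => h.1 u fun y => (mul_eq_zero.1 (hu y)).resolve_left hne,
          fun u hu => h.2 u fun y => (mul_eq_zero.1 (hu y)).resolve_left hne⟩
      obtain ⟨x, hx⟩ := Quad.exists_norm_one h2 (B := a⁻¹ • Matrix.toBilin' T) ⟨fun u v => by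
        show a⁻¹ * Matrix.toBilin' T u v = a⁻¹ * Matrix.toBilin' T v u
        rw [Matrix.toBilin'_apply', Matrix.toBilin'_apply', Matrix.dotProduct_mulVec, ← Matrix.mulVec_transpose, hTt,
          dotProduct_comm]⟩ hnd (by rw [Module.finrank_pi]; exact h2c)
      refine ⟨x, ?_⟩
      change a⁻¹ * Matrix.toBilin' T x x = 1 at hx
      rw [Matrix.toBilin'_apply'] at hx
      field_simp at hx
      exact hx
    have hν0 : ν ≠ 0 := fun h => by rw [h, MulChar.map_zero] at hν; norm_num at hν
    obtain ⟨x, hx⟩ := hrep 1 one_ne_zero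
    obtain ⟨y, hy⟩ := hrep ν hν0
    have e1 := hdisc x (by rw [hx]; exact one_ne_zero)
    have e2 := hdisc y (by rw [hy]; exact hν0)
    rw [hx, map_one, mul_one] at e1
    rw [hy, hν, ← e1] at e2
    have := quadraticChar_dichotomy (chainConst_ne_zero F j)
    rcases this with h | h <;> rw [h] at e2 <;> norm_num at e2
  refine ⟨hone, ?_⟩
  haveI : Subsingleton (JBlk (blockFun μ) i) := Fintype.card_le_one_iff_subsingleton.1 (by omega)
  let k₁ : JBlk (blockFun μ) i := ⟨k₀, hk₀'⟩
  have hdet : T.det = T k₁ k₁ := Matrix.det_eq_elem_of_subsingleton T k₁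
  have hx : (Pi.single k₁ 1) ⬝ᵥ T *ᵥ (Pi.single k₁ 1) = T.det := by
    rw [Matrix.mulVec_single_one, single_dotProduct, one_mul, hdet]; rfl
  have e1 := hdisc (Pi.single k₁ 1) (by rw [hx]; exact hT0)
  rw [hx] at e1
  rw [hcs i hjo hj, ← quadraticChar_neg_one_iff_not_isSquare, ← e1]
  have hC : quadraticChar F (chainConst F j) ^ 2 = 1 := by
    rcases quadraticChar_dichotomy (chainConst_ne_zero F j) with h | h <;>
      rw [h] <;> norm_num
  rw [mul_comm (quadraticChar F (chainConst F j)) _, mul_assoc, ← pow_two, hC, mul_one]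

end CfsgLib.ClassNumber
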