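import Cfsg.Agent.Lib.ClassCount.OrthOdd.Cells

/-!
# The numerical bounds in odd dimension

The coefficients are compared with those for `q = 3`, or `q = 5` for the tuples without signs when `q ≥ 5`.
-/

set_option autoImplicit false

namespace CfsgLib.ClassNumber

/-- The count of a cell without the restriction on roots. -/
def cZ (q k m : ℕ) : ℕ := if Even k then cN q m else W3 (cN q) m

theorem cP_le_cZ (q k m : ℕ) : cP q k m ≤ cZ q k m := by
  unfold cP cZ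
  split_ifs
  · exact le_rfl
  · exact W3_le cR_le_cN m

/-! ### Comparison of two field sizes -/

/-- `x / q ^ e ≤ x₀ / q₀ ^ e`. -/
def Dom (q₀ q e x₀ x : ℕ) : Prop := x * q₀ ^ e ≤ x₀ * q ^ e

theorem Dom.add {q₀ q e x₀ x y₀ y : ℕ} (h : Dom q₀ q e x₀ x) (h' : Dom q₀ q e y₀ y) :
    Dom q₀ q e (x₀ + y₀) (x + y) := by
  unfold Dom at *
  rw [add_mul, add_mul]
  exact Nat.add_le_add h h'

theorem Dom.mul_left {q₀ q e x₀ x : ℕ} (a : ℕ) (h : Dom q₀ q e x₀ x) : Dom q₀ q e (a * x₀) (a * x) := by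
  unfold Dom at *
  rw [mul_assoc, mul_assoc]
  exact Nat.mul_le_mul_left a h

theorem dom_zero (q₀ q e : ℕ) : Dom q₀ q e 0 0 := by simp [Dom]

theorem dom_pow {q₀ q a e : ℕ} (hq : q₀ ≤ q) (ha : a ≤ e) : Dom q₀ q e (q₀ ^ a) (q ^ a) := by
  unfold Dom
  obtain ⟨b, rfl⟩ := Nat.exists_eq_add_of_le ha
  rw [pow_add, pow_add]
  calc q ^ a * (q₀ ^ a * q₀ ^ b) = q₀ ^ a * q ^ a * q₀ ^ b := by ring
    _ ≤ q₀ ^ a * q ^ a * q ^ b := Nat.mul_le_mul_left _ (Nat.pow_le_pow_left hq b)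
    _ = _ := by ring

theorem dom_cN {q₀ q m e : ℕ} (hq : q₀ ≤ q) (he : m / 2 ≤ e) : Dom q₀ q e (cN q₀ m) (cN q m) := by
  unfold cN
  split_ifs
  · exact dom_zero _ _ _
  · exact dom_pow hq he

theorem dom_NS {q₀ q m e : ℕ} (hq : q₀ ≤ q) (he : m / 2 ≤ e) : Dom q₀ q e (NS q₀ m) (NS q m) := by
  unfold NS
  split_ifs
  · simpa using dom_pow (a := 0) (e := e) hq (Nat.zero_le e)
  · exact (dom_pow hq he).add (dom_pow hq (by omega))

theorem dom_WS {q₀ q m e : ℕ} (hq : q₀ ≤ q) (he : m / 2 ≤ e) : Dom q₀ q e (WS q₀ m) (WS q m) := by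
  unfold WS
  refine ((dom_NS hq he).add ?_).add ?_
  · split_ifs
    · exact (dom_NS hq (by omega)).mul_left 2
    · exact dom_zero _ _ _
  · split_ifs
    · exact dom_NS hq (by omega)
    · exact dom_zero _ _ _

theorem half_le_mul {k m : ℕ} (hk : 1 ≤ k) : m / 2 ≤ k * m / 2 :=
  Nat.div_le_div_right (Nat.le_mul_of_pos_left m hk)

theorem dom_cO {q₀ q k m : ℕ} (hq : q₀ ≤ q) (hk : 1 ≤ k) : Dom q₀ q (k * m / 2) (cO q₀ k m) (cO q k m) := by
  unfold cO cS
  split_ifs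
  · exact dom_zero _ _ _
  · exact dom_pow hq (half_le_mul hk)
  · exact dom_WS hq (half_le_mul hk)

theorem dom_cZ {q₀ q k m : ℕ} (hq : q₀ ≤ q) (hk : 1 ≤ k) : Dom q₀ q (k * m / 2) (cZ q₀ k m) (cZ q k m) := by
  have he := half_le_mul (m := m) hk
  unfold cZ W3
  split_ifs with h1 h2 h3 h4
  · exact dom_cN hq he
  · exact ((dom_cN hq he).add ((dom_cN hq (by omega)).mul_left 2)).add (dom_cN hq (by omega))
  · exact ((dom_cN hq he).add ((dom_cN hq (by omega)).mul_left 2)).add (dom_zero _ _ _)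
  · exact ((dom_cN hq he).add (dom_zero _ _ _)).add (dom_cN hq (by omega))
  · exact ((dom_cN hq he).add (dom_zero _ _ _)).add (dom_zero _ _ _)

theorem mono_sum {q₀ q n : ℕ} (hq : q₀ ≤ q) (c : ℕ → ℕ → ℕ → ℕ)
    (h : ∀ k m, 1 ≤ k → Dom q₀ q (k * m / 2) (c q₀ k m) (c q k m)) :
    Dom q₀ q n (∑ m ∈ sol (2 * n + 1) 1 (2 * n + 1), ∏ i : Fin (2 * n + 1), c q₀ (1 + (i : ℕ)) (m i))
      (∑ m ∈ sol (2 * n + 1) 1 (2 * n + 1), ∏ i : Fin (2 * n + 1), c q (1 + (i : ℕ)) (m i)) := by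
  unfold Dom
  rw [Finset.sum_mul, Finset.sum_mul]
  refine Finset.sum_le_sum fun m hm => ?_
  have hsum := (mem_sol one_ne_zero m).1 hm
  set e := ∑ i : Fin (2 * n + 1), (1 + (i : ℕ)) * m i / 2
  have hen : e ≤ n := by
    have h2 : 2 * e ≤ ∑ i : Fin (2 * n + 1), (1 + (i : ℕ)) * m i := by
      rw [Finset.mul_sum]
      exact Finset.sum_le_sum fun i _ => Nat.mul_div_le _ 2
    omega
  obtain ⟨b, hb⟩ := Nat.exists_eq_add_of_le hen
  have hprod : (∏ i : Fin (2 * n + 1), c q (1 + (i : ℕ)) (m i)) * q₀ ^ e ≤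
      (∏ i : Fin (2 * n + 1), c q₀ (1 + (i : ℕ)) (m i)) * q ^ e := by
    rw [← Finset.prod_pow_eq_pow_sum, ← Finset.prod_pow_eq_pow_sum, ← Finset.prod_mul_distrib,
      ← Finset.prod_mul_distrib]
    exact Finset.prod_le_prod' fun i _ => h _ _ (by omega)
  rw [show q₀ ^ n = q₀ ^ e * q₀ ^ b by rw [← pow_add, ← hb], show q ^ n = q ^ e * q ^ b by rw [← pow_add, ← hb],
    ← mul_assoc, ← mul_assoc]
  exact Nat.mul_le_mul hprod (Nat.pow_le_pow_left hq b)

/-! ### Coefficients against products of series -/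

theorem sol_prod_le {u : ℝ} (hu : 0 < u) (l : ℕ) (c : ℕ → ℕ → ℕ) (G : ℕ → ℝ) (A : ℝ)
    (h1 : ∀ m, (c 1 m : ℝ) * u ^ m ≤ A)
    (hG : ∀ k, 2 ≤ k → ∀ M, ∑ m ∈ Finset.range M, (c k m : ℝ) * u ^ (k * m) ≤ G k) :
    ((∑ m ∈ sol (l + 1) 1 (l + 1), ∏ i : Fin (l + 1), c (1 + (i : ℕ)) (m i) : ℕ) : ℝ) * u ^ (l + 1) ≤
      A * ∏ i ∈ Finset.range l, G (i + 2) := by
  have hA : 0 ≤ A := le_trans (by positivity) (h1 0)
  push_cast
  rw [Finset.sum_mul]
  have hterm : ∀ m ∈ sol (l + 1) 1 (l + 1), (∏ i : Fin (l + 1), (c (1 + (i : ℕ)) (m i) : ℝ)) * u ^ (l + 1) ≤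
      A * ∏ i : Fin l, (c ((i : ℕ) + 2) (Fin.tail m i) : ℝ) * u ^ (((i : ℕ) + 2) * Fin.tail m i) := fun m hm => by
    have hsum := (mem_sol one_ne_zero m).1 hm
    have e : (∏ i : Fin (l + 1), (c (1 + (i : ℕ)) (m i) : ℝ)) * u ^ (l + 1) =
        ∏ i : Fin (l + 1), (c (1 + (i : ℕ)) (m i) : ℝ) * u ^ ((1 + (i : ℕ)) * m i) := by
      rw [Finset.prod_mul_distrib, Finset.prod_pow_eq_pow_sum, hsum]
    rw [e, Fin.prod_univ_succ]
    refine mul_le_mul ?_ (le_of_eq ?_) (by positivity) hA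
    · simpa using h1 (m 0)
    · refine Finset.prod_congr rfl fun i _ => ?_
      rw [Fin.val_succ, show 1 + ((i : ℕ) + 1) = (i : ℕ) + 2 by omega]
      rfl
  have hinj : Set.InjOn (fun m : Fin (l + 1) → ℕ => Fin.tail m) (sol (l + 1) 1 (l + 1)) := fun a ha b hb hab => by
    have ha' := (mem_sol one_ne_zero a).1 ha
    have hb' := (mem_sol one_ne_zero b).1 hb
    rw [Fin.sum_univ_succ] at ha' hb'
    simp only [Fin.val_zero, add_zero, one_mul] at ha' hb'
    have e : ∀ i : Fin l, a i.succ = b i.succ := fun i => congrFun hab i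
    simp only [e] at ha'
    funext i
    refine Fin.cases ?_ e i
    omega
  refine (Finset.sum_le_sum hterm).trans ?_
  rw [← Finset.mul_sum]
  refine mul_le_mul_of_nonneg_left ?_ hA
  rw [← Finset.sum_image hinj
    (f := fun t => ∏ i : Fin l, (c ((i : ℕ) + 2) (t i) : ℝ) * u ^ (((i : ℕ) + 2) * t i))]
  refine (Finset.sum_le_sum_of_subset_of_nonneg (t := Fintype.piFinset fun _ : Fin l => Finset.range (l + 1 + 1))
    (fun t ht => ?_) fun t _ _ => Finset.prod_nonneg fun i _ => by positivity).trans ?_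
  · obtain ⟨m, hm, rfl⟩ := Finset.mem_image.1 ht
    exact Fintype.mem_piFinset.2 fun i => Fintype.mem_piFinset.1 (Finset.mem_filter.1 hm).1 i.succ
  · rw [← Fin.prod_univ_eq_prod_range (fun i => G (i + 2)) l, ← Finset.prod_univ_sum
      (f := fun (i : Fin l) a => (c ((i : ℕ) + 2) a : ℝ) * u ^ (((i : ℕ) + 2) * a))]
    exact Finset.prod_le_prod (fun i _ => Finset.sum_nonneg fun a _ => by positivity)
      fun i _ => hG _ (by omega) _

theorem sol_prod_le_two {u : ℝ} (hu : 0 < u) (l : ℕ) (c : ℕ → ℕ → ℕ) (G : ℕ → ℝ) (B : ℝ)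
    (hB : ∀ e, ∑ j ∈ Finset.range (e / 2 + 1), (c 1 (e - 2 * j) : ℝ) * c 2 j * u ^ e ≤ B)
    (hG : ∀ k, 3 ≤ k → ∀ M, ∑ m ∈ Finset.range M, (c k m : ℝ) * u ^ (k * m) ≤ G k) :
    ((∑ m ∈ sol (l + 2) 1 (l + 2), ∏ i : Fin (l + 2), c (1 + (i : ℕ)) (m i) : ℕ) : ℝ) * u ^ (l + 2) ≤
      B * ∏ i ∈ Finset.range l, G (i + 3) := by
  have hB0 : 0 ≤ B := le_trans (Finset.sum_nonneg fun j _ => by positivity) (hB 0)
  push_cast
  rw [Finset.sum_mul]
  set S := sol (l + 2) 1 (l + 2)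
  let τ : (Fin (l + 2) → ℕ) → (Fin l → ℕ) := fun m i => m i.succ.succ
  let W : (Fin l → ℕ) → ℝ := fun t => ∏ i : Fin l, (c ((i : ℕ) + 3) (t i) : ℝ) * u ^ (((i : ℕ) + 3) * t i)
  have hW : ∀ t, 0 ≤ W t := fun t => Finset.prod_nonneg fun i _ => by positivity
  have hsum : ∀ m ∈ S, m 0 + (2 * m 1 + ∑ i : Fin l, ((i : ℕ) + 3) * τ m i) = l + 2 := fun m hm => by
    have h := (mem_sol one_ne_zero m).1 hm
    rw [Fin.sum_univ_succ, Fin.sum_univ_succ] at h
    simp only [Fin.val_succ, Fin.val_zero, add_zero, one_mul, Fin.succ_zero_eq_one] at h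
    refine Eq.trans ?_ h
    congr 2
    exact Finset.sum_congr rfl fun i _ => by rw [show 1 + ((i : ℕ) + 1 + 1) = (i : ℕ) + 3 by omega]
  have hterm : ∀ m ∈ S, (∏ i : Fin (l + 2), (c (1 + (i : ℕ)) (m i) : ℝ)) * u ^ (l + 2) =
      (c 1 (m 0) : ℝ) * c 2 (m 1) * u ^ (m 0 + 2 * m 1) * W (τ m) := fun m hm => by
    have hW' : W (τ m) = (∏ i : Fin l, (c ((i : ℕ) + 3) (τ m i) : ℝ)) *
        u ^ ∑ i : Fin l, ((i : ℕ) + 3) * τ m i := by
      simp only [W]
      rw [Finset.prod_mul_distrib, Finset.prod_pow_eq_pow_sum]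
    have he : ∏ i : Fin (l + 2), (c (1 + (i : ℕ)) (m i) : ℝ) =
        (c 1 (m 0) : ℝ) * c 2 (m 1) * ∏ i : Fin l, (c ((i : ℕ) + 3) (τ m i) : ℝ) := by
      rw [Fin.prod_univ_succ, Fin.prod_univ_succ]
      simp only [Fin.val_succ, Fin.val_zero, add_zero, Fin.succ_zero_eq_one]
      rw [← mul_assoc]
      congr 1
      exact Finset.prod_congr rfl fun i _ => by rw [show 1 + ((i : ℕ) + 1 + 1) = (i : ℕ) + 3 by omega]
    have hp : u ^ (l + 2) = u ^ (m 0 + 2 * m 1) * u ^ ∑ i : Fin l, ((i : ℕ) + 3) * τ m i := by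
      rw [← pow_add, add_assoc, hsum m hm]
    rw [hW', he, hp]
    ring
  rw [Finset.sum_congr rfl hterm, ← Finset.sum_fiberwise_of_maps_to (g := τ) (t := S.image τ)
    (fun m hm => Finset.mem_image_of_mem τ hm)]
  refine (Finset.sum_le_sum (g := fun t => B * W t) fun t ht => ?_).trans ?_
  · obtain ⟨m₀, hm₀, hτ₀⟩ := Finset.mem_image.1 ht
    set e := m₀ 0 + 2 * m₀ 1
    have he : ∀ m ∈ S.filter fun m => τ m = t, m 0 + 2 * m 1 = e := fun m hm => by
      obtain ⟨hmS, hτ⟩ := Finset.mem_filter.1 hm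
      have h1 := hsum m hmS
      have h2 := hsum m₀ hm₀
      rw [hτ] at h1
      rw [hτ₀] at h2
      omega
    rw [Finset.sum_congr rfl (g := fun m => (c 1 (e - 2 * m 1) : ℝ) * c 2 (m 1) * u ^ e * W t) fun m hm => by
      rw [(Finset.mem_filter.1 hm).2, he m hm, show e - 2 * m 1 = m 0 by have := he m hm; omega],
      ← Finset.sum_mul]
    refine mul_le_mul_of_nonneg_right (le_trans ?_ (hB e)) (hW t)
    rw [← Finset.sum_image (g := fun m : Fin (l + 2) → ℕ => m 1)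
      (f := fun j => (c 1 (e - 2 * j) : ℝ) * c 2 j * u ^ e)]
    · refine Finset.sum_le_sum_of_subset_of_nonneg (fun j hj => ?_) fun j _ _ => by positivity
      obtain ⟨m, hm, rfl⟩ := Finset.mem_image.1 hj
      have := he m hm
      exact Finset.mem_range.2 (by omega)
    · intro a ha b hb hab
      simp only [Finset.mem_coe] at ha hb hab
      have ha0 := he a ha
      have hb0 := he b hb
      have hτab : τ a = τ b := (Finset.mem_filter.1 ha).2.trans (Finset.mem_filter.1 hb).2.symm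
      funext i
      refine Fin.cases (by omega) (fun i => Fin.cases hab (fun i => congrFun hτab i) i) i
  · rw [← Finset.mul_sum]
    refine mul_le_mul_of_nonneg_left ?_ hB0
    refine (Finset.sum_le_sum_of_subset_of_nonneg (t := Fintype.piFinset fun _ : Fin l => Finset.range (l + 2 + 1))
      (fun t ht => ?_) fun t _ _ => hW t).trans ?_
    · obtain ⟨m, hm, rfl⟩ := Finset.mem_image.1 ht
      exact Fintype.mem_piFinset.2 fun i => Fintype.mem_piFinset.1 (Finset.mem_filter.1 hm).1 i.succ.succ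
    · rw [← Fin.prod_univ_eq_prod_range (fun i => G (i + 3)) l, ← Finset.prod_univ_sum
        (f := fun (i : Fin l) a => (c ((i : ℕ) + 3) a : ℝ) * u ^ (((i : ℕ) + 3) * a))]
      exact Finset.prod_le_prod (fun i _ => Finset.sum_nonneg fun a _ => by positivity)
        fun i _ => hG _ (by omega) _

/-! ### The series of the cells without signs -/

theorem cN_series_le {q : ℕ} {v : ℝ} (hv : 0 ≤ v) (hqv : (q : ℝ) * v ^ 2 < 1) (M : ℕ) :
    ∑ m ∈ Finset.range M, (cN q m : ℝ) * v ^ m ≤ 1 / (1 - (q : ℝ) * v ^ 2) := by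
  set x : ℝ := (q : ℝ) * v ^ 2 with hx
  have hx0 : 0 ≤ x := by positivity
  have hterm : ∀ m, (cN q m : ℝ) * v ^ m = if Odd m then 0 else x ^ (m / 2) := fun m => by
    unfold cN
    split_ifs with h
    · simp
    · obtain ⟨l, rfl⟩ := Nat.not_odd_iff_even.1 h
      rw [show (l + l) / 2 = l by omega, Nat.cast_pow, hx, mul_pow, ← pow_mul, two_mul]
  simp only [hterm]
  have hex : ∀ L, (1 - x) * ∑ m ∈ Finset.range (2 * L), (if Odd m then 0 else x ^ (m / 2) : ℝ) = 1 - x ^ L := by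
    intro L
    induction L with
    | zero => simp
    | succ L ih =>
      rw [show 2 * (L + 1) = 2 * L + 1 + 1 by omega, Finset.sum_range_succ, Finset.sum_range_succ, mul_add,
        mul_add, ih, if_neg (by rw [Nat.odd_iff]; omega), if_pos (by rw [Nat.odd_iff]; omega),
        show 2 * L / 2 = L by omega, pow_succ]
      ring
  rw [le_div_iff₀ (by linarith), mul_comm]
  refine (mul_le_mul_of_nonneg_left (Finset.sum_le_sum_of_subset_of_nonneg
    (Finset.range_mono (show M ≤ 2 * M by omega)) fun m _ _ => by split_ifs <;> positivity) (by linarith)).trans ?_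
  rw [hex]
  linarith [pow_nonneg hx0 M]

theorem W3_series_le {c : ℕ → ℕ} {v : ℝ} (hv : 0 ≤ v) {B : ℝ}
    (h : ∀ M, ∑ m ∈ Finset.range M, (c m : ℝ) * v ^ m ≤ B) (M : ℕ) :
    ∑ m ∈ Finset.range M, (W3 c m : ℝ) * v ^ m ≤ (1 + v) ^ 2 * B := by
  have hshift : ∀ s M, ∑ m ∈ Finset.range M, (if s ≤ m then (c (m - s) : ℝ) * v ^ m else 0) ≤ v ^ s * B := by
    intro s M
    have hB : 0 ≤ B := le_trans (by simp) (h 0)
    rw [← Finset.sum_filter]
    refine le_trans ?_ (mul_le_mul_of_nonneg_left (h (M - s)) (pow_nonneg hv s))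
    rw [Finset.mul_sum]
    refine le_of_eq (Finset.sum_bij' (fun m _ => m - s) (fun m _ => m + s) ?_ ?_ ?_ ?_ ?_)
    · intro m hm
      simp only [Finset.mem_filter, Finset.mem_range] at hm ⊢
      omega
    · intro m hm
      simp only [Finset.mem_filter, Finset.mem_range] at hm ⊢
      omega
    · intro m hm
      simp only [Finset.mem_filter, Finset.mem_range] at hm
      omega
    · intro m _
      omega
    · intro m hm
      simp only [Finset.mem_filter, Finset.mem_range] at hm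
      rw [show v ^ m = v ^ s * v ^ (m - s) by rw [← pow_add]; congr 1; omega]
      ring
  have e : ∀ m, (W3 c m : ℝ) * v ^ m = (c m : ℝ) * v ^ m + 2 * (if 1 ≤ m then (c (m - 1) : ℝ) * v ^ m else 0) +
      (if 2 ≤ m then (c (m - 2) : ℝ) * v ^ m else 0) := fun m => by
    unfold W3
    split_ifs <;> push_cast <;> ring
  simp only [e, Finset.sum_add_distrib, ← Finset.mul_sum]
  nlinarith [hshift 1 M, hshift 2 M, h M]

/-- The bound for the size `k`: exact below `8`. -/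
noncomputable def GX (w r : ℝ) (k : ℕ) : ℝ :=
  if k < 8 then (if Odd k then (1 + w ^ k) ^ 2 else 1) * (1 / (1 - r ^ (k - 1))) else GO k

theorem cZ_series_le {q : ℕ} (hq : 3 ≤ q) {w : ℝ} (hw : wu q ≤ w) (k : ℕ) (hk : 2 ≤ k) (M : ℕ) :
    ∑ m ∈ Finset.range M, (cZ q k m : ℝ) * wu q ^ (k * m) ≤ GX w (1 / q) k := by
  obtain ⟨h0, h1, h1', hsq⟩ := wu_facts hq
  have hq3 : (3 : ℝ) ≤ q := by exact_mod_cast hq
  have hx : (q : ℝ) * (wu q ^ k) ^ 2 = (1 / (q : ℝ)) ^ (k - 1) := by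
    rw [q_mul_pow hq k (by omega)]
    congr 1
    rw [eq_div_iff (by positivity), mul_comm]
    exact hsq
  have hr3 : (1 / (q : ℝ)) ^ (k - 1) ≤ 1 / 3 ^ (k - 1) := by
    rw [← one_div_pow]
    exact pow_le_pow_left₀ (by positivity) (one_div_le_one_div_of_le (by norm_num) hq3) _
  have h13 := (third_pow_lt (k - 2)).1
  rw [show k - 2 + 1 = k - 1 by omega] at h13
  have hN := cN_series_le (q := q) (pow_nonneg h0.le k) (by rw [hx]; linarith)
  rw [hx] at hN
  have hden : 0 < 1 - (1 / (q : ℝ)) ^ (k - 1) := by linarith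
  have hmain : ∑ m ∈ Finset.range M, (cZ q k m : ℝ) * wu q ^ (k * m) ≤
      (if Odd k then (1 + wu q ^ k) ^ 2 else 1) * (1 / (1 - (1 / (q : ℝ)) ^ (k - 1))) := by
    simp only [pow_mul]
    rcases Nat.even_or_odd k with he | ho
    · rw [if_neg (Nat.not_odd_iff_even.2 he), one_mul]
      simp only [cZ, if_pos he]
      exact hN M
    · rw [if_pos ho]
      simp only [cZ, if_neg (Nat.not_even_iff_odd.2 ho)]
      exact W3_series_le (pow_nonneg h0.le k) hN M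
  refine hmain.trans ?_
  unfold GX
  by_cases h8 : k < 8
  · rw [if_pos h8]
    refine mul_le_mul_of_nonneg_right ?_ (by positivity)
    by_cases ho : Odd k
    · rw [if_pos ho, if_pos ho]
      exact pow_le_pow_left₀ (by positivity) (add_le_add le_rfl (pow_le_pow_left₀ h0.le hw k)) 2
    · rw [if_neg ho, if_neg ho]
  rw [if_neg h8, GO]
  have hG : (1 : ℝ) / (1 - (1 / (q : ℝ)) ^ (k - 1)) ≤ 1 / (1 - 1 / 3 ^ (k - 1)) :=
    one_div_le_one_div_of_le (by linarith) (by linarith)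
  refine mul_le_mul ?_ hG (by positivity) (by unfold GA; split_ifs <;> positivity)
  have key : ∀ w : ℝ, wu q ≤ w → (1 + wu q ^ k) ^ 2 ≤ (1 + w ^ k) ^ 4 := fun w hw' => by
    have hb : (1 : ℝ) ≤ 1 + w ^ k := le_add_of_nonneg_right (pow_nonneg (h0.le.trans hw') _)
    exact (pow_le_pow_left₀ (by positivity) (add_le_add le_rfl (pow_le_pow_left₀ h0.le hw' k)) 2).trans
      (pow_le_pow_right₀ hb (by norm_num))
  unfold GA
  by_cases ho : Odd k
  · rw [if_pos ho, if_pos ho, if_pos (Or.inl ho)]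
    split_ifs
    · exact key _ h1
    · exact key _ h1'
  · rw [if_neg ho, if_neg ho]
    split_ifs <;> first | exact le_rfl | exact one_le_pow₀ (le_add_of_nonneg_right (by positivity))

/-- The product of the bounds, through the product of `GO`. -/
theorem prod_GX_le {w r : ℝ} (h1 : ∀ k, 2 ≤ k → 1 ≤ GX w r k) (L : ℕ) {C : ℝ}
    (hC : 16 / 3 * ∏ i ∈ Finset.range 6, GX w r (i + 2) ≤ C * ∏ i ∈ Finset.range 6, GO (i + 2)) :
    ∏ i ∈ Finset.range L, GX w r (i + 2) ≤ C := by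
  have hGO : ∀ i, (1 : ℝ) ≤ GO (i + 2) := fun i => one_le_GO (by omega)
  have hmono : ∏ i ∈ Finset.range L, GX w r (i + 2) ≤ ∏ i ∈ Finset.range (6 + L), GX w r (i + 2) :=
    Finset.prod_le_prod_of_subset_of_one_le (Finset.range_mono (by omega))
      (fun i _ => zero_le_one.trans (h1 _ (by omega))) fun i _ _ => h1 _ (by omega)
  refine hmono.trans ?_
  have hR := RP_le (6 + L)
  rw [RP, Finset.prod_range_add] at hR
  rw [Finset.prod_range_add]
  have e : ∀ i ∈ Finset.range L, GX w r (6 + i + 2) = GO (6 + i + 2) := fun i _ => by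
    rw [GX, if_neg (by omega)]
  rw [Finset.prod_congr rfl e]
  have hT : 0 < ∏ i ∈ Finset.range 6, GO (i + 2) := Finset.prod_pos fun i _ => lt_of_lt_of_le one_pos (hGO i)
  have hD : 0 ≤ ∏ i ∈ Finset.range 6, GX w r (i + 2) :=
    Finset.prod_nonneg fun i _ => zero_le_one.trans (h1 _ (by omega))
  refine le_of_mul_le_mul_right ?_ hT
  calc (∏ i ∈ Finset.range 6, GX w r (i + 2)) * (∏ i ∈ Finset.range L, GO (6 + i + 2)) *
        ∏ i ∈ Finset.range 6, GO (i + 2)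
      = (∏ i ∈ Finset.range 6, GX w r (i + 2)) *
        ((∏ i ∈ Finset.range 6, GO (i + 2)) * ∏ i ∈ Finset.range L, GO (6 + i + 2)) := by ring
    _ ≤ (∏ i ∈ Finset.range 6, GX w r (i + 2)) * (16 / 3) := mul_le_mul_of_nonneg_left hR hD
    _ ≤ _ := by linarith

theorem one_le_GX {w r : ℝ} (hw : 0 ≤ w) (hr : 0 ≤ r) (hr1 : r < 1) (k : ℕ) (hk : 2 ≤ k) : 1 ≤ GX w r k := by
  unfold GX
  split_ifs with h ho
  · have : r ^ (k - 1) < 1 := pow_lt_one₀ hr hr1 (by omega)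
    have hp := pow_nonneg hr (k - 1)
    exact one_le_mul_of_one_le_of_one_le (one_le_pow₀ (le_add_of_nonneg_right (pow_nonneg hw k)))
      ((le_div_iff₀ (by linarith)).2 (by linarith))
  · have : r ^ (k - 1) < 1 := pow_lt_one₀ hr hr1 (by omega)
    have hp := pow_nonneg hr (k - 1)
    exact one_le_mul_of_one_le_of_one_le le_rfl ((le_div_iff₀ (by linarith)).2 (by linarith))
  · exact one_le_GO hk

/-! ### The case `q = 3` -/

theorem cP_one_small (m : ℕ) (hm : 2 ≤ m) : (cP 3 1 m : ℝ) * wu 3 ^ m ≤ 2 / 3 := by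
  obtain ⟨h0, h1, -, hsq⟩ := wu_facts (le_refl 3)
  have hs : wu 3 ^ 2 = 1 / 3 := by
    push_cast at hsq
    linarith
  obtain rfl | rfl | rfl | ⟨l, rfl⟩ | ⟨l, rfl⟩ :
      m = 2 ∨ m = 3 ∨ m = 4 ∨ (∃ l, m = 2 * l + 5) ∨ ∃ l, m = 2 * l + 6 := by
    rcases Nat.even_or_odd m with ⟨a, ha⟩ | ⟨a, ha⟩
    · rcases (show a = 1 ∨ a = 2 ∨ 3 ≤ a by omega) with h | h | h
      · omega
      · omega
      · exact Or.inr (Or.inr (Or.inr (Or.inr ⟨a - 3, by omega⟩)))
    · rcases (show a = 1 ∨ 2 ≤ a by omega) with h | h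
      · omega
      · exact Or.inr (Or.inr (Or.inr (Or.inl ⟨a - 2, by omega⟩)))
  · rw [hs]; norm_num [cP, W3, cR]
  · rw [show wu 3 ^ 3 = wu 3 ^ 2 * wu 3 by ring, hs]
    norm_num [cP, W3, cR, Nat.odd_iff]
    linarith
  · rw [show wu 3 ^ 4 = (wu 3 ^ 2) ^ 2 by ring, hs]
    norm_num [cP, W3, cR, Nat.odd_iff]
  · have hodd : ∀ i, Odd i → cR 3 i = 0 := fun i hi => by rw [cR, if_pos hi]
    have hev : ∀ j, cR 3 (2 * j + 4) = 4 * 3 ^ j := fun j => by
      rw [cR, if_neg (by rw [Nat.odd_iff]; omega), if_neg (by omega), if_neg (by omega),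
        show (2 * j + 4) / 2 - 2 = j by omega]
      norm_num
    have e : cP 3 1 (2 * l + 5) = 8 * 3 ^ l := by
      rw [cP, if_neg (by decide), W3, if_pos (by omega), if_pos (by omega), show 2 * l + 5 - 1 = 2 * l + 4 by omega,
        show 2 * l + 5 - 2 = 2 * l + 3 by omega, hev, hodd _ (by rw [Nat.odd_iff]; omega),
        hodd _ (by rw [Nat.odd_iff]; omega)]
      ring
    rw [e, pow_add, pow_mul, hs]
    push_cast
    rw [show (8 : ℝ) * 3 ^ l * ((1 / 3) ^ l * wu 3 ^ 5) = 8 * ((3 : ℝ) * (1 / 3)) ^ l * ((wu 3 ^ 2) ^ 2 * wu 3) by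
      rw [mul_pow]; ring, hs]
    norm_num
    linarith
  · have hodd : ∀ i, Odd i → cR 3 i = 0 := fun i hi => by rw [cR, if_pos hi]
    have hev : ∀ j, cR 3 (2 * j + 4) = 4 * 3 ^ j := fun j => by
      rw [cR, if_neg (by rw [Nat.odd_iff]; omega), if_neg (by omega), if_neg (by omega),
        show (2 * j + 4) / 2 - 2 = j by omega]
      norm_num
    have e : cP 3 1 (2 * l + 6) = 16 * 3 ^ l := by
      rw [cP, if_neg (by decide), W3, if_pos (by omega), if_pos (by omega), show 2 * l + 6 - 2 = 2 * l + 4 by omega,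
        show 2 * l + 6 - 1 = 2 * l + 5 by omega, show 2 * l + 6 = 2 * (l + 1) + 4 by ring, hev, hev,
        hodd _ (by rw [Nat.odd_iff]; omega), pow_succ]
      ring
    rw [e, pow_add, pow_mul, hs]
    push_cast
    rw [show (16 : ℝ) * 3 ^ l * ((1 / 3) ^ l * wu 3 ^ 6) = 16 * ((3 : ℝ) * (1 / 3)) ^ l * (wu 3 ^ 2) ^ 3 by
      rw [mul_pow]; ring, hs]
    norm_num

/-- The first two sizes together for `q = 3`. -/
theorem head_three : ∀ e : ℕ,
    ∑ j ∈ Finset.range (e / 2 + 1), (cP 3 1 (e - 2 * j) : ℝ) * cP 3 2 j * wu 3 ^ e ≤ 6 / 5 := by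
  obtain ⟨h0, h1, -, hsq⟩ := wu_facts (le_refl 3)
  have hs : wu 3 ^ 2 = 1 / 3 := by
    push_cast at hsq
    linarith
  have h2 : ∀ j, cP 3 2 j = cN 3 j := fun j => by rw [cP, if_pos even_two]
  have h2s : ∀ j, cN 3 (j + 2) = 3 * cN 3 j := fun j => by
    unfold cN
    rw [show (j + 2) / 2 = j / 2 + 1 by omega, pow_succ]
    simp only [Nat.odd_add, even_two, iff_true]
    split_ifs <;> omega
  intro e
  induction e using Nat.strong_induction_on with
  | _ e ih =>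
    rcases Nat.lt_or_ge e 4 with he | he
    · interval_cases e
      · norm_num [h2, cP, W3, cR, cN, Finset.sum_range_succ]
      · norm_num [h2, cP, W3, cR, cN, Finset.sum_range_succ, Nat.odd_iff]
        linarith
      · norm_num [h2, cP, W3, cR, cN, Finset.sum_range_succ, Nat.odd_iff, hs]
      · rw [show wu 3 ^ 3 = wu 3 ^ 2 * wu 3 by ring, hs]
        norm_num [h2, cP, W3, cR, cN, Finset.sum_range_succ, Nat.odd_iff]
        linarith
    · obtain ⟨d, rfl⟩ : ∃ d, e = d + 4 := ⟨e - 4, by omega⟩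
      rw [show (d + 4) / 2 + 1 = d / 2 + 1 + 1 + 1 by omega, Finset.sum_range_succ', Finset.sum_range_succ']
      have hh := ih d (by omega)
      have ha := cP_one_small (d + 4) (by omega)
      have e1 : ∀ j : ℕ, (cP 3 1 (d + 4 - 2 * (j + 1 + 1)) : ℝ) * cP 3 2 (j + 1 + 1) * wu 3 ^ (d + 4) =
          1 / 3 * ((cP 3 1 (d - 2 * j) : ℝ) * cP 3 2 j * wu 3 ^ d) := fun j => by
        rw [show d + 4 - 2 * (j + 1 + 1) = d - 2 * j by omega, h2, h2, show j + 1 + 1 = j + 2 from rfl, h2s,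
          pow_add, show wu 3 ^ 4 = (wu 3 ^ 2) ^ 2 by ring, hs]
        push_cast
        ring
      simp only [e1, ← Finset.mul_sum]
      have e0 : cP 3 2 0 = 1 := by simp [h2, cN]
      have e2 : cP 3 2 (0 + 1) = 0 := by simp [h2, cN]
      rw [e0, e2, Nat.cast_zero, Nat.cast_one, mul_zero, zero_mul, mul_one, add_zero, Nat.mul_zero, Nat.sub_zero]
      linarith

theorem pTup_three (n : ℕ) (hn : 1 ≤ n) :
    10 * ((∑ m ∈ sol (2 * n + 1) 1 (2 * n + 1), ∏ i : Fin (2 * n + 1), cP 3 (1 + (i : ℕ)) (m i) : ℕ) : ℝ) ≤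
      49 * 3 ^ n := by
  obtain ⟨h0, h1, -, hsq⟩ := wu_facts (le_refl 3)
  push_cast at hsq
  have hlo : (5773 / 10000 : ℝ) ≤ wu 3 := by nlinarith
  obtain ⟨l, hl⟩ : ∃ l, 2 * n + 1 = l + 2 := ⟨2 * n - 1, by omega⟩
  have hG : ∀ k, 3 ≤ k → ∀ M, ∑ m ∈ Finset.range M, (cP 3 k m : ℝ) * wu 3 ^ (k * m) ≤ GX (2887 / 5000) (1 / 3) k := by
    intro k hk M
    refine le_trans (Finset.sum_le_sum fun m _ => mul_le_mul_of_nonneg_right (Nat.cast_le.2 (cP_le_cZ 3 k m))
      (by positivity)) ?_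
    simpa using cZ_series_le (le_refl 3) h1 k (by omega) M
  have h := sol_prod_le_two h0 l (cP 3) (GX (2887 / 5000) (1 / 3)) (6 / 5) head_three hG
  have hP : ∏ i ∈ Finset.range l, GX (2887 / 5000) (1 / 3 : ℝ) (i + 3) ≤ 22 / 10 := by
    have hp := prod_GX_le (one_le_GX (w := 2887 / 5000) (r := (1 / 3 : ℝ)) (by norm_num) (by norm_num) (by norm_num))
      (l + 1) (C := 33 / 10) (by norm_num [GX, GO, GA, Finset.prod_range_succ, Nat.odd_iff])
    rw [Finset.prod_range_succ', show GX (2887 / 5000) (1 / 3 : ℝ) (0 + 2) = 3 / 2 by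
      norm_num [GX, Nat.odd_iff]] at hp
    have e : ∀ i : ℕ, i + 1 + 2 = i + 3 := fun i => rfl
    simp only [e] at hp
    linarith
  rw [← hl] at h
  have hp3 : wu 3 ^ (2 * n + 1) = wu 3 / 3 ^ n := by
    rw [pow_succ, pow_mul, show wu 3 ^ 2 = 1 / 3 by linarith, one_div_pow]
    ring
  rw [hp3] at h
  generalize ((∑ m ∈ sol (2 * n + 1) 1 (2 * n + 1), ∏ i : Fin (2 * n + 1), cP 3 (1 + (i : ℕ)) (m i) : ℕ) : ℝ) = S
    at h ⊢
  have hS : S * wu 3 ≤ 6 / 5 * (22 / 10) * 3 ^ n := by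
    rw [mul_div_assoc', div_le_iff₀ (by positivity)] at h
    refine h.trans (mul_le_mul_of_nonneg_right (mul_le_mul_of_nonneg_left hP (by norm_num)) (by positivity))
  rcases le_or_gt S 0 with hS0 | hS0
  · have : (0 : ℝ) ≤ 49 * 3 ^ n := by positivity
    linarith
  · nlinarith [mul_le_mul_of_nonneg_left hlo hS0.le, pow_pos (show (0 : ℝ) < 3 by norm_num) n]

/-! ### The case `q ≥ 5` and the tuples with signs -/

theorem cZ_one_five (m : ℕ) : (cZ 5 1 m : ℝ) * wu 5 ^ m ≤ 6 / 5 := by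
  obtain ⟨h0, -, -, hsq⟩ := wu_facts (show 3 ≤ 5 by norm_num)
  push_cast at hsq
  have hs : wu 5 ^ 2 = 1 / 5 := by linarith
  have h1 : wu 5 ≤ 9 / 20 := by nlinarith
  rw [cZ, if_neg (by decide)]
  rcases Nat.even_or_odd m with ⟨l, rfl⟩ | ⟨l, rfl⟩
  · rcases Nat.eq_zero_or_pos l with rfl | hl
    · norm_num [W3, cN]
    · obtain ⟨j, rfl⟩ : ∃ j, l = j + 1 := ⟨l - 1, by omega⟩
      have e : W3 (cN 5) (j + 1 + (j + 1)) = 6 * 5 ^ j := by
        rw [W3, if_pos (by omega), if_pos (by omega), cN, if_neg (by rw [Nat.odd_iff]; omega),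
          show cN 5 (j + 1 + (j + 1) - 1) = 0 by rw [cN, if_pos (by rw [Nat.odd_iff]; omega)],
          show cN 5 (j + 1 + (j + 1) - 2) = 5 ^ j by
            rw [cN, if_neg (by rw [Nat.odd_iff]; omega), show (j + 1 + (j + 1) - 2) / 2 = j by omega],
          show (j + 1 + (j + 1)) / 2 = j + 1 by omega, pow_succ]
        ring
      rw [e, show j + 1 + (j + 1) = 2 * (j + 1) by ring, pow_mul, hs, one_div_pow]
      push_cast
      rw [pow_succ]
      field_simp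
      norm_num
  · have e : W3 (cN 5) (2 * l + 1) = 2 * 5 ^ l := by
      rw [W3, if_pos (by omega), show cN 5 (2 * l + 1) = 0 by rw [cN, if_pos (by rw [Nat.odd_iff]; omega)],
        show cN 5 (2 * l + 1 - 1) = 5 ^ l by
          rw [cN, if_neg (by rw [Nat.odd_iff]; omega), show (2 * l + 1 - 1) / 2 = l by omega]]
      split_ifs
      · rw [show cN 5 (2 * l + 1 - 2) = 0 by rw [cN, if_pos (by rw [Nat.odd_iff]; omega)]]; omega
      · omega
    rw [e, pow_succ, pow_mul, hs]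
    push_cast
    rw [show (2 : ℝ) * 5 ^ l * ((1 / 5) ^ l * wu 5) = 2 * ((5 : ℝ) * (1 / 5)) ^ l * wu 5 by rw [mul_pow]; ring]
    norm_num
    linarith

theorem zTup_five (n : ℕ) :
    10 * ((∑ m ∈ sol (2 * n + 1) 1 (2 * n + 1), ∏ i : Fin (2 * n + 1), cZ 5 (1 + (i : ℕ)) (m i) : ℕ) : ℝ) ≤
      49 * 5 ^ n := by
  obtain ⟨h0, -, -, hsq⟩ := wu_facts (show 3 ≤ 5 by norm_num)
  push_cast at hsq
  have hlo : (4472 / 10000 : ℝ) ≤ wu 5 := by nlinarith
  have hhi : wu 5 ≤ (4473 / 10000 : ℝ) := by nlinarith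
  have h := sol_prod_le h0 (2 * n) (cZ 5) (GX (4473 / 10000) (1 / 5)) (6 / 5) cZ_one_five fun k hk M => by
    simpa using cZ_series_le (show 3 ≤ 5 by norm_num) hhi k hk M
  have hP : ∏ i ∈ Finset.range (2 * n), GX (4473 / 10000) (1 / 5 : ℝ) (i + 2) ≤ 174 / 100 :=
    prod_GX_le (one_le_GX (by norm_num) (by norm_num) (by norm_num)) _
      (by norm_num [GX, GO, GA, Finset.prod_range_succ, Nat.odd_iff])
  have hp : wu 5 ^ (2 * n + 1) = wu 5 / 5 ^ n := by
    rw [pow_succ, pow_mul, show wu 5 ^ 2 = 1 / 5 by linarith, one_div_pow]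
    ring
  rw [hp] at h
  generalize ((∑ m ∈ sol (2 * n + 1) 1 (2 * n + 1), ∏ i : Fin (2 * n + 1), cZ 5 (1 + (i : ℕ)) (m i) : ℕ) : ℝ) = S
    at h ⊢
  have hS : S * wu 5 ≤ 6 / 5 * (174 / 100) * 5 ^ n := by
    rw [mul_div_assoc', div_le_iff₀ (by positivity)] at h
    refine h.trans (mul_le_mul_of_nonneg_right (mul_le_mul_of_nonneg_left hP (by norm_num)) (by positivity))
  rcases le_or_gt S 0 with hS0 | hS0
  · have : (0 : ℝ) ≤ 49 * 5 ^ n := by positivity
    linarith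
  · nlinarith [mul_le_mul_of_nonneg_left hlo hS0.le, pow_pos (show (0 : ℝ) < 5 by norm_num) n]

theorem sgnTupO_three (n : ℕ) :
    10 * ((∑ m ∈ sol (2 * n + 1) 1 (2 * n + 1), ∏ i : Fin (2 * n + 1), cO 3 (1 + (i : ℕ)) (m i) : ℕ) : ℝ) ≤
      288 * 3 ^ n := by
  obtain ⟨h0, -, -, hsq⟩ := wu_facts (le_refl 3)
  push_cast at hsq
  have hlo : (5773 / 10000 : ℝ) ≤ wu 3 := by nlinarith
  have h := sol_prod_le h0 (2 * n) (cO 3) GO (28 / 9) (cO_one_le (le_refl 3)) (cO_series_le (le_refl 3))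
  have hP : ∏ i ∈ Finset.range (2 * n), GO (i + 2) ≤ 16 / 3 := RP_le _
  have hp : wu 3 ^ (2 * n + 1) = wu 3 / 3 ^ n := by
    rw [pow_succ, pow_mul, show wu 3 ^ 2 = 1 / 3 by linarith, one_div_pow]
    ring
  rw [hp] at h
  generalize ((∑ m ∈ sol (2 * n + 1) 1 (2 * n + 1), ∏ i : Fin (2 * n + 1), cO 3 (1 + (i : ℕ)) (m i) : ℕ) : ℝ) = S
    at h ⊢
  have hS : S * wu 3 ≤ 28 / 9 * (16 / 3) * 3 ^ n := by
    rw [mul_div_assoc', div_le_iff₀ (by positivity)] at h
    refine h.trans (mul_le_mul_of_nonneg_right (mul_le_mul_of_nonneg_left hP (by norm_num)) (by positivity))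
  rcases le_or_gt S 0 with hS0 | hS0
  · have : (0 : ℝ) ≤ 288 * 3 ^ n := by positivity
    linarith
  · nlinarith [mul_le_mul_of_nonneg_left hlo hS0.le, pow_pos (show (0 : ℝ) < 3 by norm_num) n]

theorem scale_bound {q₀ q n a b T₀ T : ℕ} (hq₀ : 0 < q₀) (hdom : Dom q₀ q n T₀ T) (h : a * T₀ ≤ b * q₀ ^ n) :
    a * T ≤ b * q ^ n := by
  refine Nat.le_of_mul_le_mul_right ?_ (pow_pos hq₀ n)
  calc a * T * q₀ ^ n = a * (T * q₀ ^ n) := mul_assoc _ _ _
    _ ≤ a * (T₀ * q ^ n) := Nat.mul_le_mul_left _ hdom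
    _ = a * T₀ * q ^ n := (mul_assoc _ _ _).symm
    _ ≤ b * q₀ ^ n * q ^ n := Nat.mul_le_mul_right _ h
    _ = _ := by ring

/-- The two counts for an odd prime power. -/
theorem tuple_bounds {q n : ℕ} (hq : 3 ≤ q) (hodd : Odd q) (hn : 1 ≤ n) :
    10 * (∑ m ∈ sol (2 * n + 1) 1 (2 * n + 1), ∏ i : Fin (2 * n + 1), cO q (1 + (i : ℕ)) (m i)) ≤ 288 * q ^ n ∧
      10 * (∑ m ∈ sol (2 * n + 1) 1 (2 * n + 1), ∏ i : Fin (2 * n + 1), cP q (1 + (i : ℕ)) (m i)) ≤ 49 * q ^ n := by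
  refine ⟨scale_bound (by norm_num) (mono_sum hq cO fun k m hk => dom_cO hq hk) ?_, ?_⟩
  · exact_mod_cast sgnTupO_three n
  rcases (show q = 3 ∨ 5 ≤ q by obtain ⟨r, rfl⟩ := hodd; omega) with rfl | hq5
  · exact_mod_cast pTup_three n hn
  · refine le_trans (Nat.mul_le_mul_left 10 (Finset.sum_le_sum fun m _ => Finset.prod_le_prod' fun i _ =>
      cP_le_cZ q _ _)) ?_
    refine scale_bound (by norm_num) (mono_sum hq5 cZ fun k m hk => dom_cZ hq5 hk) ?_
    exact_mod_cast zTup_five n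

end CfsgLib.ClassNumber
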