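import Cfsg.Agent.Lib.ClassCount.OrthOdd.Count
import Cfsg.Agent.Lib.ClassCount.Orthogonal.Bounds

/-!
# Counting the cells of tuples without signs
-/

set_option autoImplicit false

open Polynomial
open scoped _root_.Classical

namespace CfsgLib.ClassNumber

universe u

variable {F : Type u} [Field F]

/-- Self-reciprocal polynomials without the roots `1` and `-1`. -/
abbrev RMon (F : Type u) [Field F] (m : ℕ) : Type u :=
  {g : SelfMon F m // g.1.1.eval 1 ≠ 0 ∧ g.1.1.eval (-1) ≠ 0}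

/-- The bound for the number of self-reciprocal polynomials without the roots `1` and `-1`. -/
def cR (q m : ℕ) : ℕ :=
  if Odd m then 0 else if m = 0 then 1 else if m = 2 then q - 2 else (q - 1) ^ 2 * q ^ (m / 2 - 2)

/-- The weighting by simple roots `1` and `-1`. -/
def W3 (c : ℕ → ℕ) (m : ℕ) : ℕ :=
  c m + (if 1 ≤ m then 2 * c (m - 1) else 0) + if 2 ≤ m then c (m - 2) else 0

theorem W3_le {c c' : ℕ → ℕ} (h : ∀ m, c m ≤ c' m) (m : ℕ) : W3 c m ≤ W3 c' m := by
  unfold W3
  refine Nat.add_le_add (Nat.add_le_add (h m) ?_) ?_ <;> split_ifs <;> first | exact le_rfl | exact h _ |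
    exact Nat.mul_le_mul_left 2 (h _)

theorem cR_le_cN {q : ℕ} (m : ℕ) : cR q m ≤ cN q m := by
  unfold cR cN
  split_ifs with h h0 h2
  · exact le_rfl
  · subst h0; simp
  · subst h2; simp
  · obtain ⟨l, rfl⟩ := Nat.not_odd_iff_even.1 h
    obtain ⟨j, hj⟩ : ∃ j, (l + l) / 2 = j + 2 := ⟨(l + l) / 2 - 2, by omega⟩
    rw [hj, Nat.add_sub_cancel, pow_add, mul_comm (q ^ j)]
    exact Nat.mul_le_mul_right _ (Nat.pow_le_pow_left (Nat.sub_le q 1) 2)

variable [Fintype F]

theorem card_rMon_le (h2 : (2 : F) ≠ 0) (m : ℕ) : Nat.card (RMon F m) ≤ cR (Fintype.card F) m := by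
  have hev : ∀ g : RMon F m, Even m ∧ g.1.1.1.coeff 0 = 1 := fun g => by
    obtain ⟨a, b⟩ := self_no_root h2 g.1.1.2.2.2 g.1.2 g.2.1 g.2.2
    exact ⟨g.1.1.2.2.1 ▸ a, b⟩
  have hsym : ∀ (g : RMon F m) (j : ℕ), j ≤ m → g.1.1.1.coeff (m - j) = g.1.1.1.coeff j := fun g j hj => by
    have := coeff_self g.1.2 (j := j) (by rw [g.1.1.2.2.1]; exact hj)
    rw [g.1.1.2.2.1, (hev g).2, inv_one, one_mul] at this
    exact this.symm
  have htop : ∀ g : RMon F m, g.1.1.1.coeff m = 1 := fun g => by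
    have := g.1.1.2.1.coeff_natDegree
    rwa [g.1.1.2.2.1] at this
  have hhigh : ∀ (g : RMon F m) (j : ℕ), m < j → g.1.1.1.coeff j = 0 := fun g j hj =>
    coeff_eq_zero_of_natDegree_lt (by rw [g.1.1.2.2.1]; exact hj)
  have h4 : (4 : F) ≠ 0 := by
    rw [show (4 : F) = 2 * 2 by norm_num]
    exact mul_ne_zero h2 h2
  unfold cR
  split_ifs with h hm0 hm2
  · have : IsEmpty (RMon F m) := ⟨fun g => Nat.not_even_iff_odd.2 h (hev g).1⟩
    simp
  · subst hm0
    refine Finite.card_le_one_iff_subsingleton.2 ⟨fun g g' => Subtype.ext (Subtype.ext (Subtype.ext ?_))⟩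
    rw [(g.1.1.2.1.natDegree_eq_zero).1 g.1.1.2.2.1, (g'.1.1.2.1.natDegree_eq_zero).1 g'.1.1.2.2.1]
  · subst hm2
    have hform : ∀ g : RMon F 2, g.1.1.1.eval 1 = 2 + g.1.1.1.coeff 1 ∧ g.1.1.1.eval (-1) = 2 - g.1.1.1.coeff 1 := fun g => by
      have e : ∀ x, g.1.1.1.eval x = 1 + g.1.1.1.coeff 1 * x + x ^ 2 := fun x => by
        rw [eval_eq_sum_range, g.1.1.2.2.1, Finset.sum_range_succ, Finset.sum_range_succ, Finset.sum_range_succ,
          Finset.sum_range_zero, (hev g).2, htop g]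
        ring
      exact ⟨by rw [e]; ring, by rw [e]; ring⟩
    have hinj : Function.Injective fun g : RMon F 2 =>
        (⟨g.1.1.1.eval 1, g.2.1, fun h => g.2.2 (by
          rw [(hform g).2]; rw [(hform g).1] at h; linear_combination (-1 : F) * h)⟩ : {x : F // x ≠ 0 ∧ x ≠ 4}) := by
      intro g g' h
      have e := congrArg Subtype.val h
      simp only at e
      rw [(hform g).1, (hform g').1, add_right_inj] at e
      refine Subtype.ext (Subtype.ext (Subtype.ext (Polynomial.ext fun j => ?_)))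
      rcases Nat.lt_trichotomy j 1 with hj | rfl | hj
      · rw [show j = 0 by omega, (hev g).2, (hev g').2]
      · exact e
      · rcases (show j = 2 ∨ 2 < j by omega) with rfl | hj2
        · rw [htop, htop]
        · rw [hhigh g j hj2, hhigh g' j hj2]
    refine (Nat.card_le_card_of_injective _ hinj).trans_eq ?_
    rw [Nat.card_eq_fintype_card, Fintype.card_subtype, show (Finset.univ.filter fun x : F => x ≠ 0 ∧ x ≠ 4) =
      (Finset.univ.erase 0).erase 4 by ext x; simp [and_comm], Finset.card_erase_of_mem (by simp [h4]),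
      Finset.card_erase_of_mem (Finset.mem_univ _), Finset.card_univ]
    rfl
  · obtain ⟨l, rfl⟩ := Nat.not_odd_iff_even.1 h
    have hl : 2 ≤ l := by omega
    have hinj : Function.Injective fun g : RMon F (l + l) =>
        (((⟨g.1.1.1.eval 1, g.2.1⟩ : {x : F // x ≠ 0}), (⟨g.1.1.1.eval (-1), g.2.2⟩ : {x : F // x ≠ 0})),
          fun k : Fin (l - 2) => g.1.1.1.coeff ((k : ℕ) + 1)) := by
      intro g g' h
      simp only [Prod.mk.injEq, Subtype.mk.injEq] at h
      obtain ⟨⟨e1, e2⟩, e3⟩ := h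
      set d := g.1.1.1 - g'.1.1.1
      have hd0 : ∀ j, j + 2 ≤ l → d.coeff j = 0 := fun j hj => by
        rw [coeff_sub, sub_eq_zero]
        rcases Nat.eq_zero_or_pos j with rfl | hpos
        · rw [(hev g).2, (hev g').2]
        · have := congrFun e3 ⟨j - 1, by omega⟩
          simpa [show j - 1 + 1 = j by omega] using this
      have hd : d = C (d.coeff (l - 1)) * (X ^ (l - 1) + X ^ (l + 1)) + C (d.coeff l) * X ^ l := by
        ext j
        simp only [coeff_add, coeff_C_mul, coeff_X_pow]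
        rcases (show j + 2 ≤ l ∨ j = l - 1 ∨ j = l ∨ j = l + 1 ∨ (l + 2 ≤ j ∧ j ≤ l + l) ∨ l + l < j by omega) with
          hj | hj | hj | hj | ⟨hj, hj'⟩ | hj
        · rw [hd0 j hj, if_neg (by omega), if_neg (by omega), if_neg (by omega)]; ring
        · subst hj; rw [if_pos rfl, if_neg (by omega), if_neg (by omega)]; ring
        · subst hj; rw [if_pos rfl, if_neg (by omega), if_neg (by omega)]; ring
        · subst hj
          rw [if_neg (by omega), if_pos rfl, if_neg (by omega), coeff_sub, coeff_sub,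
            show l - 1 = l + l - (l + 1) by omega, hsym g _ (by omega), hsym g' _ (by omega)]
          ring
        · rw [if_neg (by omega), if_neg (by omega), if_neg (by omega), coeff_sub, ← hsym g j hj', ← hsym g' j hj',
            ← coeff_sub, hd0 _ (by omega)]
          ring
        · rw [if_neg (by omega), if_neg (by omega), if_neg (by omega), coeff_sub, hhigh g j hj, hhigh g' j hj]
          ring
      have h1 : d.eval 1 = 0 := by rw [eval_sub, e1, sub_self]
      have h1' : d.eval (-1) = 0 := by rw [eval_sub, e2, sub_self]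
      rw [hd] at h1 h1'
      simp only [eval_add, eval_mul, eval_C, eval_pow, eval_X, one_pow] at h1 h1'
      obtain ⟨j, rfl⟩ : ∃ j, l = j + 1 := ⟨l - 1, by omega⟩
      simp only [Nat.add_sub_cancel, pow_succ] at h1' h1 hd
      have hs : ((-1 : F) ^ j) * (-1) ^ j = 1 := by rw [← mul_pow, neg_one_mul, neg_neg, one_pow]
      have hb : d.coeff (j + 1) = -2 * d.coeff j := by linear_combination h1
      have ha : d.coeff j = 0 := by
        have h5 : (4 : F) * d.coeff j = 0 := by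
          linear_combination ((-1 : F) ^ j) * h1' + h1 + (-2 * d.coeff j + d.coeff (j + 1)) * hs
        exact (mul_eq_zero.1 h5).resolve_left h4
      rw [ha, mul_zero] at hb
      rw [ha, hb, C_0, zero_mul, zero_mul, add_zero] at hd
      exact Subtype.ext (Subtype.ext (Subtype.ext (sub_eq_zero.1 hd)))
    refine (Nat.card_le_card_of_injective _ hinj).trans_eq ?_
    rw [Nat.card_prod, Nat.card_prod, Nat.card_fun, Nat.card_fin, Nat.card_eq_fintype_card, Nat.card_eq_fintype_card,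
      Fintype.card_subtype_compl, Fintype.card_subtype_eq, show (l + l) / 2 - 2 = l - 2 by omega, sq]

omit [Fintype F] in
/-- A polynomial with simple roots at `1` and `-1` at most. -/
theorem exists_rMon_factor {m : ℕ} (g : SelfMon F m) (ha : g.1.1.rootMultiplicity 1 ≤ 1)
    (hb : g.1.1.rootMultiplicity (-1) ≤ 1) (h2 : (2 : F) ≠ 0) :
    ∃ (a b : Fin 2) (h : RMon F (m - a - b)), (a : ℕ) + b ≤ m ∧
      g.1.1 = (X - C 1) ^ (a : ℕ) * (X - C (-1)) ^ (b : ℕ) * h.1.1.1 := by
  set a := g.1.1.rootMultiplicity 1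
  set b := g.1.1.rootMultiplicity (-1)
  have hne : (1 : F) ≠ -1 := fun h => h2 (by linear_combination h)
  have hg0 := g.1.2.1.ne_zero
  obtain ⟨u, hu⟩ := pow_rootMultiplicity_dvd g.1.1 1
  obtain ⟨v, hv⟩ := pow_rootMultiplicity_dvd g.1.1 (-1)
  have hcop : IsCoprime ((X - C (1 : F)) ^ a) ((X - C (-1 : F)) ^ b) :=
    (isCoprime_X_sub_C_of_isUnit_sub (sub_ne_zero.2 hne).isUnit).pow
  obtain ⟨h, hh⟩ := hcop.mul_dvd ⟨u, hu⟩ ⟨v, hv⟩
  have hp := ((monic_X_sub_C (1 : F)).pow a).mul ((monic_X_sub_C (-1 : F)).pow b)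
  have hm : h.Monic := hp.of_mul_monic_left (hh ▸ g.1.2.1)
  have hdeg : a + b + h.natDegree = m := by
    have := g.1.2.2.1
    rw [hh, hp.natDegree_mul hm, ((monic_X_sub_C (1 : F)).pow a).natDegree_mul ((monic_X_sub_C (-1 : F)).pow b),
      natDegree_pow, natDegree_pow, natDegree_X_sub_C, natDegree_X_sub_C, mul_one, mul_one] at this
    exact this
  have h0 : h.coeff 0 ≠ 0 := fun e => g.1.2.2.2 (by rw [hh, mul_coeff_zero, e, mul_zero])
  have hr : recipPoly h = h := by
    have e := g.2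
    rw [hh, recipPoly_mul, recipPoly_mul, recipPoly_pow, recipPoly_pow, recipPoly_X_sub_C (one_mul 1),
      recipPoly_X_sub_C (show (-1 : F) * -1 = 1 by ring)] at e
    exact mul_left_cancel₀ hp.ne_zero e
  have hmul : ∀ c : F, g.1.1.rootMultiplicity c = ((X - C (1 : F)) ^ a).rootMultiplicity c +
      ((X - C (-1 : F)) ^ b).rootMultiplicity c + h.rootMultiplicity c := fun c => by
    rw [hh, rootMultiplicity_mul (hh ▸ hg0), rootMultiplicity_mul hp.ne_zero]
  have e1 := hmul 1
  have e2 := hmul (-1)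
  rw [rootMultiplicity_X_sub_C_pow] at e1 e2
  have r1 : h.eval 1 ≠ 0 := fun e => by
    have := (rootMultiplicity_pos hm.ne_zero).2 e
    omega
  have r2 : h.eval (-1) ≠ 0 := fun e => by
    have := (rootMultiplicity_pos hm.ne_zero).2 e
    omega
  exact ⟨⟨a, by omega⟩, ⟨b, by omega⟩, ⟨⟨⟨h, hm, by simp only; omega, h0⟩, hr⟩, r1, r2⟩, by simp only; omega, hh⟩

/-- The count of a cell. -/
def cP (q k m : ℕ) : ℕ := if Even k then cN q m else W3 (cR q) m

theorem card_cellA_le (h2 : (2 : F) ≠ 0) (k m : ℕ) :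
    Nat.card {g : Mon F m // CellA k g.1} ≤ cP (Fintype.card F) k m := by
  unfold cP
  split_ifs with hk
  · unfold cN
    split_ifs with hm
    · have : IsEmpty {g : Mon F m // CellA k g.1} := ⟨fun g => Nat.not_even_iff_odd.2 hm (g.1.2.2.1 ▸ (g.2.2.1 hk).1)⟩
      simp
    · exact (Nat.card_le_card_of_injective
        (fun g : {g : Mon F m // CellA k g.1} => (⟨⟨g.1, g.2.1⟩, (g.2.2.1 hk).2⟩ : {g : SelfMon F m // g.1.1.coeff 0 = 1}))
        fun x y h => Subtype.ext (congrArg (fun z : {g : SelfMon F m // g.1.1.coeff 0 = 1} => z.1.1) h)).trans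
          card_self_one_le
  · have ho := Nat.not_even_iff_odd.1 hk
    choose a b h hab hg using fun g : {g : Mon F m // CellA k g.1} =>
      exists_rMon_factor ⟨g.1, g.2.1⟩ (g.2.2.2 ho).1 (g.2.2.2 ho).2 h2
    let f : {g : Mon F m // CellA k g.1} →
        Σ z : {z : Fin 2 × Fin 2 // (z.1 : ℕ) + z.2 ≤ m}, RMon F (m - z.1.1 - z.1.2) :=
      fun g => ⟨⟨(a g, b g), hab g⟩, h g⟩
    let val : (Σ z : {z : Fin 2 × Fin 2 // (z.1 : ℕ) + z.2 ≤ m}, RMon F (m - z.1.1 - z.1.2)) → F[X] :=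
      fun x => (X - C 1) ^ (x.1.1.1 : ℕ) * (X - C (-1)) ^ (x.1.1.2 : ℕ) * x.2.1.1.1
    refine (Nat.card_le_card_of_injective f fun g g' e => Subtype.ext (Subtype.ext ?_)).trans ?_
    · have := congrArg val e
      exact (hg g).trans (this.trans (hg g').symm)
    rw [Nat.card_sigma]
    refine (Finset.sum_le_sum (g := fun z : {z : Fin 2 × Fin 2 // (z.1 : ℕ) + z.2 ≤ m} =>
      cR (Fintype.card F) (m - z.1.1 - z.1.2)) fun z _ => card_rMon_le h2 _).trans_eq ?_
    rw [← Finset.sum_subtype (Finset.univ.filter fun z : Fin 2 × Fin 2 => (z.1 : ℕ) + z.2 ≤ m) (fun z => by simp)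
      (fun z : Fin 2 × Fin 2 => cR (Fintype.card F) (m - z.1 - z.2)), Finset.sum_filter, Fintype.sum_prod_type,
      Fin.sum_univ_two, Fin.sum_univ_two, Fin.sum_univ_two]
    unfold W3
    simp only [Fin.val_zero, Fin.val_one, Nat.zero_add, Nat.add_zero, Nat.zero_le, if_true, Nat.sub_zero,
      show (1 : ℕ) + 1 = 2 from rfl, Nat.sub_sub]
    split_ifs <;> omega

theorem card_pTup_le (h2 : (2 : F) ≠ 0) (N : ℕ) :
    Nat.card (PTup F N) ≤ ∑ m ∈ sol N 1 N, ∏ i : Fin N, cP (Fintype.card F) (1 + (i : ℕ)) (m i) := by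
  let f : PTup F N → Σ m : ↥(sol N 1 N), ∀ i : Fin N, {g : Mon F (m.1 i) // CellA (1 + (i : ℕ)) g.1} := fun t =>
    ⟨⟨t.1.deg, (mem_sol one_ne_zero _).2 t.1.2.2⟩,
      fun i => ⟨⟨t.1.1 i, (t.1.2.1 i).1, rfl, (t.1.2.1 i).2⟩, t.2 i⟩⟩
  let g : (Σ m : ↥(sol N 1 N), ∀ i : Fin N, {g : Mon F (m.1 i) // CellA (1 + (i : ℕ)) g.1}) → (Fin N → F[X]) :=
    fun z i => (z.2 i).1.1
  have hf : Function.Injective f := fun t t' h => Subtype.ext (Subtype.ext (congrArg g h :))
  refine (Nat.card_le_card_of_injective f hf).trans ?_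
  rw [Nat.card_sigma, Finset.univ_eq_attach]
  refine (Finset.sum_attach (sol N 1 N) fun m => Nat.card (∀ i : Fin N, {g : Mon F (m i) // CellA (1 + (i : ℕ)) g.1})).trans_le ?_
  refine Finset.sum_le_sum fun m _ => ?_
  rw [Nat.card_pi]
  exact Finset.prod_le_prod' fun i _ => card_cellA_le h2 _ _

end CfsgLib.ClassNumber
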