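import Cfsg.Agent.Lib.ClassCount.OrthOdd.Spinor
import Cfsg.Agent.Lib.ClassCount.Orthogonal.Count
import Cfsg.Agent.Lib.Classical.Quad.OmegaIndex

/-!
# Classes with centralizers of trivial spinor norm against tuples without signs
-/

set_option autoImplicit false

open Polynomial
open scoped _root_.Classical
open CfsgLib.Classical CfsgLib.Classical.ClassTheory

namespace CfsgLib.ClassNumber

open LinearMap (BilinForm)
open QuadraticMap (polarBilin)

universe u

variable {F : Type u} [Field F] [Fintype F] {V : Type u} [AddCommGroup V] [Module F V] [FiniteDimensional F V]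

omit [FiniteDimensional F V] in
theorem GoodFor.sub {B : BilinForm F V} {T : Module.End F V} {κ : ℤ} [FiniteDimensional F V] (h : GoodFor B T κ)
    (U : Submodule F V) (T' : Module.End F U) (hT : ∀ v : U, (T' v : V) = T v) : GoodFor (B.restrict U) T' κ := by
  intro W hW hn hodd
  let e := Submodule.equivMapOfInjective U.subtype U.injective_subtype W
  have he : ∀ u : W, ((e u : W.map U.subtype) : V) = ((u : U) : V) := fun u => rfl
  have hform : ∀ u v : W, (B.restrict (W.map U.subtype)) (e u) (e v) = (B.restrict U).restrict W u v := fun u v => by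
    show B (e u : V) (e v : V) = _
    rw [he, he]; rfl
  rw [← h (W.map U.subtype) ?_ ?_ (by rwa [← e.finrank_eq])]
  · exact discChar_congr e hform
  · rintro _ ⟨w, hw, rfl⟩
    exact ⟨T' w, hW w hw, hT w⟩
  · refine ⟨fun u hu => ?_, fun u hu => ?_⟩
    · obtain ⟨u, rfl⟩ := e.surjective u
      rw [hn.1 u fun v => by rw [← hform]; exact hu (e v), map_zero]
    · obtain ⟨u, rfl⟩ := e.surjective u
      rw [hn.2 u fun v => by rw [← hform]; exact hu (e v), map_zero]

/-- Passage to the Cayley transform. -/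
theorem GoodFor.cayley {B : BilinForm F V} {a : V ≃ₗ[F] V} {N : Module.End F V} {c : F} {κ : ℤ}
    (h : GoodFor B (a : V →ₗ[F] V) κ) (hN : IsNilpotent N) (hkey : ∀ v, a (v - N v) = c • (v + N v)) :
    GoodFor B N κ := by
  intro W hW hn hodd
  refine h W (fun w hw => ?_) hn hodd
  let R : Module.End F W := LinearMap.id - N.restrict hW
  have hinj : Function.Injective R := fun x y e => by
    refine Subtype.ext (((Module.End.isUnit_iff _).1 hN.isUnit_one_sub).1 ?_)
    exact congrArg Subtype.val e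
  obtain ⟨v, hv⟩ := LinearMap.injective_iff_surjective.1 hinj ⟨w, hw⟩
  have hv' : (v : V) - N v = w := congrArg Subtype.val hv
  show a w ∈ W
  rw [← hv', hkey]
  exact W.smul_mem _ (W.add_mem v.2 (hW v v.2))

/-- The data under the hypothesis. -/
theorem HasDataO.of_goodFor (h2 : (2 : F) ≠ 0) {B : BilinForm F V} {a : V ≃ₗ[F] V} {μ μ' : Multiset ℕ}
    {S S' : Finset ℕ} {Q : ℕ → F[X]} (h : HasDataO B a μ μ' S S' Q) {κ : ℤ}
    (hgood : GoodFor B (a : V →ₗ[F] V) κ) {j : ℕ} (hjo : Odd j) :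
    (j ∈ μ → μ.count j = 1 ∧ (j ∈ S ↔ κ * quadraticChar F (chainConst F j) = -1)) ∧
      (j ∈ μ' → μ'.count j = 1 ∧ (j ∈ S' ↔ κ * quadraticChar F (chainConst F j) = -1)) := by
  obtain ⟨⟨N, hN, hkey, hs⟩, ⟨N', hN', hkey', hs'⟩, -⟩ := h
  refine ⟨fun hj => hs.of_goodFor h2 ?_ hjo hj, fun hj => hs'.of_goodFor h2 ?_ hjo hj⟩
  · exact (hgood.sub (genKer a 1) (onKer a 1 : genKer a 1 →ₗ[F] genKer a 1) fun v => rfl).cayley hN hkey
  · exact ((hgood.sub (genRan a 1) (onRan a 1 : genRan a 1 →ₗ[F] genRan a 1) fun v => rfl).sub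
      (genKer (onRan a 1) (-1)) (onKer (onRan a 1) (-1) : genKer (onRan a 1) (-1) →ₗ[F] genKer (onRan a 1) (-1))
      fun v => rfl).cayley hN' hkey'

/-- The polynomial of the blocks of size `k`. -/
def CellA (k : ℕ) (g : F[X]) : Prop :=
  recipPoly g = g ∧ (Even k → Even g.natDegree ∧ g.coeff 0 = 1) ∧
    (Odd k → g.rootMultiplicity 1 ≤ 1 ∧ g.rootMultiplicity (-1) ≤ 1)

variable (F) in
/-- The tuples without signs with simple odd blocks at `1` and `-1`. -/
abbrev PTup (N : ℕ) : Type u := {t : Tup F N // ∀ i : Fin N, CellA (1 + (i : ℕ)) (t.1 i)}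

theorem TupData.cellA (h2 : (2 : F) ≠ 0) {B : BilinForm F V} {a : V ≃ₗ[F] V} {N : ℕ} {t : SgnTupO F N}
    (h : TupData B a t) {κ : ℤ} (hgood : GoodFor B (a : V →ₗ[F] V) κ) :
    (∀ i : Fin N, CellA (1 + (i : ℕ)) (t.1.1.1 i)) ∧
      ∀ i : Fin N, t.1.2 i =
        (decide (Odd (1 + (i : ℕ)) ∧ (t.1.1.1 i).rootMultiplicity 1 ≠ 0 ∧
            κ * quadraticChar F (chainConst F (1 + (i : ℕ))) = -1),
          decide (Odd (1 + (i : ℕ)) ∧ (t.1.1.1 i).rootMultiplicity (-1) ≠ 0 ∧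
            κ * quadraticChar F (chainConst F (1 + (i : ℕ))) = -1)) := by
  obtain ⟨μ, μ', S, S', Q, hd, hQ, -, -, hU, hsg⟩ := h
  obtain ⟨⟨-, -, hS⟩, -, -, hS'⟩ := hd.signs
  have hroot : ∀ i : Fin N, (t.1.1.1 i).rootMultiplicity 1 = μ.count (1 + (i : ℕ)) ∧
      (t.1.1.1 i).rootMultiplicity (-1) = μ'.count (1 + (i : ℕ)) := fun i => by
    obtain ⟨a1, a2, a3, a4, -⟩ := hQ (1 + (i : ℕ)) (by omega)
    obtain ⟨-, -, -, r1, r2⟩ := joinPart_props h2 a1 a2 a3 a4 (μ.count (1 + (i : ℕ))) (μ'.count (1 + (i : ℕ)))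
    rw [hU i]
    exact ⟨r1, r2⟩
  refine ⟨fun i => ⟨(t.2 i).1, fun he => ?_, fun ho => ?_⟩, fun i => ?_⟩
  · obtain ⟨b1, b2, -⟩ := (t.2 i).2.1 he.add_one
    exact ⟨b1, b2⟩
  · have key : ∀ {ν : Multiset ℕ}, ((1 + (i : ℕ)) ∈ ν → ν.count (1 + (i : ℕ)) = 1) → ν.count (1 + (i : ℕ)) ≤ 1 := by
      intro ν hν
      by_cases hm : (1 + (i : ℕ)) ∈ ν
      · exact (hν hm).le
      · rw [Multiset.count_eq_zero_of_notMem hm]; omega
    rw [(hroot i).1, (hroot i).2]
    exact ⟨key fun hm => ((hd.of_goodFor h2 hgood ho).1 hm).1, key fun hm => ((hd.of_goodFor h2 hgood ho).2 hm).1⟩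
  · rw [hsg i, (hroot i).1, (hroot i).2]
    refine Prod.ext (decide_eq_decide.2 ?_) (decide_eq_decide.2 ?_)
    · constructor
      · intro hm
        obtain ⟨ho, hmu⟩ := hS _ hm
        exact ⟨ho, Multiset.count_ne_zero.2 hmu, ((hd.of_goodFor h2 hgood ho).1 hmu).2.1 hm⟩
      · rintro ⟨ho, hmu, hk⟩
        exact ((hd.of_goodFor h2 hgood ho).1 (Multiset.count_ne_zero.1 hmu)).2.2 hk
    · constructor
      · intro hm
        obtain ⟨ho, hmu⟩ := hS' _ hm
        exact ⟨ho, Multiset.count_ne_zero.2 hmu, ((hd.of_goodFor h2 hgood ho).2 hmu).2.1 hm⟩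
      · rintro ⟨ho, hmu, hk⟩
        exact ((hd.of_goodFor h2 hgood ho).2 (Multiset.count_ne_zero.1 hmu)).2.2 hk

variable {ι : Type} [Fintype ι] [DecidableEq ι]

/-- Every element of even parity commuting with `g` is in `Ω`. -/
def TrivialSpinor (Q : QuadraticForm F (ι → F)) (hQ : (polarBilin Q).Nondegenerate)
    (hex : (∃ c : F, c ≠ 0 ∧ c ≠ 1) ∨ Fintype.card ι ≠ 4) (g : ↥(Cfsg.isometryGroup F (⇑Q))) : Prop :=
  ∀ h, Commute h g → (Quad.invHomM hQ hex h).1 = 1 → Quad.invHomM hQ hex h = 1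

theorem card_trivialSpinor_le {p : ℕ} [Fact p.Prime] [CharP F p] (hp : p ≠ 2)
    (Q : QuadraticForm F (ι → F)) (hQ : (polarBilin Q).Nondegenerate)
    (hex : (∃ c : F, c ≠ 0 ∧ c ≠ 1) ∨ Fintype.card ι ≠ 4) {N : ℕ} (hN : Fintype.card ι = N) (hodd : Odd N) :
    Nat.card {C : ConjClasses ↥(Cfsg.isometryGroup F (⇑Q)) // ∀ x, ConjClasses.mk x = C → TrivialSpinor Q hQ hex x} ≤
      Nat.card (PTup F N) := by
  have h2 : (2 : F) ≠ 0 := fun h => hp ((Nat.prime_dvd_prime_iff_eq (Fact.out : p.Prime) Nat.prime_two).1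
    ((CharP.cast_eq_zero_iff F p 2).1 (by exact_mod_cast h)))
  set G := ↥(Cfsg.isometryGroup F (⇑Q))
  let E := Quad.oEquiv Q
  have hR := Quad.reflGroup_pi_eq_top hQ hex
  have hA : ∀ u v, polarBilin Q u v = polarBilin Q v u := fun u v => QuadraticMap.polar_comm _ u v
  have hpres : ∀ g : G, ∀ u v, polarBilin Q ((E g).1 u) ((E g).1 v) = polarBilin Q u v := fun g u v =>
    Quad.OQ.map_polar (E g) u v
  have hfr : Module.finrank F (ι → F) = N := by rw [Module.finrank_pi, hN]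
  choose f hf using fun C : {C : ConjClasses G // ∀ x, ConjClasses.mk x = C → TrivialSpinor Q hQ hex x} =>
    exists_tupData h2 hA hQ (E (Quotient.out C.1)).1 (hpres _) hfr
  have hgood : ∀ C : {C : ConjClasses G // ∀ x, ConjClasses.mk x = C → TrivialSpinor Q hQ hex x},
      GoodFor (polarBilin Q) ((E (Quotient.out C.1)).1 : (ι → F) →ₗ[F] (ι → F)) (discChar (polarBilin Q)) := fun C => by
    refine goodFor_of_trivial_spinor hQ hR h2 (by rwa [hfr]) _ fun h hc hpar => ?_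
    have hh := C.2 _ (Quotient.out_eq C.1) (E.symm h) (by
      have := hc.map E.symm.toMonoidHom
      simpa using this) (by
      show (Quad.invHom hQ hR (E (E.symm h))).1 = 1
      rwa [MulEquiv.apply_symm_apply])
    change Quad.invHom hQ hR (E (E.symm h)) = 1 at hh
    rwa [MulEquiv.apply_symm_apply] at hh
  refine Nat.card_le_card_of_injective (fun C => (⟨(f C).1.1, ((hf C).cellA h2 (hgood C)).1⟩ : PTup F N))
    fun C C' he => ?_
  have e1 : (f C).1.1 = (f C').1.1 := congrArg Subtype.val he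
  have e2 : f C = f C' := Subtype.ext (Prod.ext e1 (funext fun i => by
    rw [((hf C).cellA h2 (hgood C)).2 i, ((hf C').cellA h2 (hgood C')).2 i, e1]))
  obtain ⟨φ, hφ, hφb⟩ := (hf C).exists_isometry hp h2 hA hQ (hpres _) hA hQ (hpres _) rfl (e2 ▸ hf C')
  have hφQ : φ ∈ Quad.OQ Q := Quad.mem_OQ.2 fun v => mul_left_cancel₀ h2 (by
    have e := hφb v v
    rwa [QuadraticMap.polarBilin_apply_apply, QuadraticMap.polarBilin_apply_apply, QuadraticMap.polar_self,
      QuadraticMap.polar_self, two_nsmul, two_nsmul, ← two_mul, ← two_mul] at e)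
  refine Subtype.ext ?_
  rw [← Quotient.out_eq C.1, ← Quotient.out_eq C'.1]
  refine Quotient.sound (isConj_iff.2 ⟨E.symm ⟨φ, hφQ⟩, mul_inv_eq_iff_eq_mul.2 (E.injective ?_)⟩)
  rw [map_mul, map_mul, MulEquiv.apply_symm_apply]
  exact Subtype.ext (LinearEquiv.ext hφ)

end CfsgLib.ClassNumber
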