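import Mathlib
import Cfsg.Agent.Lib.Orders.OrderConjugate

/-!
# Class numbers of a subgroup of index two

For `H` of index two in `G` one has `k(G) ≤ 2 k(H) ≤ k(G) + 3 s`, with `s` the number of classes of `G`
inside `H` all whose centralizers lie in `H`.
-/

set_option autoImplicit false

namespace CfsgLib.ClassNumber

variable {G : Type*} [Group G]

/-- The class lies in `H` together with the centralizers of its elements. -/
def SplitClass (H : Subgroup G) (C : ConjClasses G) : Prop :=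
  ∀ x, ConjClasses.mk x = C → x ∈ H ∧ ∀ y, Commute y x → y ∈ H

/-- The classes inside `H`. -/
abbrev InClass (H : Subgroup G) : Type _ := {C : ConjClasses G // ∀ x, ConjClasses.mk x = C → x ∈ H}

theorem card_comm_left [Finite G] (H : Subgroup G) (hn : H.Normal) :
    Nat.card {p : G × G // p.1 ∈ H ∧ Commute p.1 p.2} = Nat.card (InClass H) * Nat.card G := by
  classical
  have hfib : ∀ C : InClass H, Nat.card {p : G × G // ConjClasses.mk p.1 = C.1 ∧ Commute p.1 p.2} = Nat.card G := by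
    intro C
    obtain ⟨x₀, hx₀⟩ := ConjClasses.mk_surjective C.1
    let e : {p : G × G // ConjClasses.mk p.1 = C.1 ∧ Commute p.1 p.2} ≃
        Σ x : (ConjClasses.mk x₀).carrier, Subgroup.centralizer ({(x : G)} : Set G) :=
      { toFun := fun p => ⟨⟨p.1.1, ConjClasses.mem_carrier_iff_mk_eq.2 (p.2.1.trans hx₀.symm)⟩,
          ⟨p.1.2, Subgroup.mem_centralizer_singleton_iff.2 p.2.2.symm.eq⟩⟩
        invFun := fun z => ⟨(z.1.1, z.2.1), (ConjClasses.mem_carrier_iff_mk_eq.1 z.1.2).trans hx₀,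
          (Subgroup.mem_centralizer_singleton_iff.1 z.2.2 : z.2.1 * z.1.1 = z.1.1 * z.2.1).symm⟩
        left_inv := fun p => rfl
        right_inv := fun z => rfl }
    rw [Nat.card_congr e]
    let _ := Fintype.ofFinite (ConjClasses.mk x₀).carrier
    rw [Nat.card_sigma]
    have hc : ∀ x : (ConjClasses.mk x₀).carrier,
        Nat.card (ConjClasses.mk x₀).carrier * Nat.card (Subgroup.centralizer ({(x : G)} : Set G)) = Nat.card G := by
      rintro ⟨x, hx⟩
      show Nat.card (ConjClasses.mk x₀).carrier * Nat.card (Subgroup.centralizer ({x} : Set G)) = Nat.card G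
      rw [← ConjClasses.mem_carrier_iff_mk_eq.1 hx, CfsgLib.Orders.card_carrier_eq_index, Subgroup.index_mul_card]
    have hpos : 0 < Nat.card (ConjClasses.mk x₀).carrier :=
      Nat.card_pos_iff.2 ⟨⟨⟨x₀, ConjClasses.mem_carrier_mk⟩⟩, inferInstance⟩
    refine Nat.eq_of_mul_eq_mul_left hpos ?_
    rw [Finset.mul_sum, Finset.sum_congr rfl fun x _ => hc x, Finset.sum_const, smul_eq_mul, Finset.card_univ,
      Nat.card_eq_fintype_card (α := (ConjClasses.mk x₀).carrier)]
  let e : {p : G × G // p.1 ∈ H ∧ Commute p.1 p.2} ≃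
      Σ C : InClass H, {p : G × G // ConjClasses.mk p.1 = C.1 ∧ Commute p.1 p.2} :=
    { toFun := fun p => ⟨⟨ConjClasses.mk p.1.1, fun y hy => by
          obtain ⟨c, hc⟩ := isConj_iff.1 (ConjClasses.mk_eq_mk_iff_isConj.1 hy).symm
          rw [← hc]
          exact hn.conj_mem _ p.2.1 c⟩, ⟨p.1, rfl, p.2.2⟩⟩
      invFun := fun z => ⟨z.2.1, z.1.2 _ z.2.2.1, z.2.2.2⟩
      left_inv := fun p => rfl
      right_inv := by
        rintro ⟨⟨C, hC⟩, ⟨p, hp, hq⟩⟩
        change ConjClasses.mk p.1 = C at hp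
        subst hp
        rfl }
  let _ := Fintype.ofFinite (InClass H)
  rw [Nat.card_congr e, Nat.card_sigma, Finset.sum_congr rfl fun C _ => hfib C, Finset.sum_const, smul_eq_mul,
    Finset.card_univ, Nat.card_eq_fintype_card (α := InClass H)]

theorem three_mul_inClass [Finite G] (H : Subgroup G) (h2 : H.index = 2) :
    3 * Nat.card (InClass H) = Nat.card (ConjClasses H) + Nat.card (ConjClasses G) := by
  classical
  have hn : H.Normal := Subgroup.normal_of_index_eq_two h2
  let A := {p : G × G // Commute p.1 p.2}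
  have split : ∀ (P R : G × G → Prop),
      Nat.card {p : G × G // P p} = Nat.card {p : G × G // P p ∧ R p} + Nat.card {p : G × G // P p ∧ ¬ R p} := by
    intro P R
    rw [← Nat.card_sum]
    exact Nat.card_congr ((Equiv.sumCompl fun p : {p : G × G // P p} => R p.1).symm.trans
      ((Equiv.subtypeSubtypeEquivSubtypeInter P R).sumCongr (Equiv.subtypeSubtypeEquivSubtypeInter P fun p => ¬ R p)))
  set n11 := Nat.card {p : G × G // (p.1 ∈ H ∧ Commute p.1 p.2) ∧ p.2 ∈ H}
  set n10 := Nat.card {p : G × G // (p.1 ∈ H ∧ Commute p.1 p.2) ∧ p.2 ∉ H}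
  set n01 := Nat.card {p : G × G // (Commute p.1 p.2 ∧ p.1 ∉ H) ∧ p.2 ∈ H}
  set n00 := Nat.card {p : G × G // (Commute p.1 p.2 ∧ p.1 ∉ H) ∧ p.2 ∉ H}
  have hH : n11 = Nat.card (ConjClasses H) * Nat.card H := by
    rw [← card_comm_eq_card_conjClasses_mul_card H]
    exact Nat.card_congr
      { toFun := fun p => ⟨(⟨p.1.1, p.2.1.1⟩, ⟨p.1.2, p.2.2⟩), Subtype.ext p.2.1.2.eq⟩
        invFun := fun q => ⟨(q.1.1.1, q.1.2.1), ⟨q.1.1.2, congrArg Subtype.val q.2.eq⟩, q.1.2.2⟩
        left_inv := fun p => rfl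
        right_inv := fun q => rfl }
  have hleft : n11 + n10 = Nat.card (InClass H) * Nat.card G :=
    (split _ fun p => p.2 ∈ H).symm.trans (card_comm_left H hn)
  have hall : n11 + n10 + (n01 + n00) = Nat.card (ConjClasses G) * Nat.card G := by
    rw [← card_comm_eq_card_conjClasses_mul_card G, split (fun p => Commute p.1 p.2) fun p => p.1 ∈ H]
    refine congrArg₂ (· + ·) ?_ (split _ fun p => p.2 ∈ H).symm
    rw [← split _ fun p => p.2 ∈ H]
    exact Nat.card_congr (Equiv.subtypeEquivRight fun p => and_comm)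
  have hswap : n01 = n10 := Nat.card_congr
    { toFun := fun p => ⟨p.1.swap, ⟨p.2.2, p.2.1.1.symm⟩, p.2.1.2⟩
      invFun := fun p => ⟨p.1.swap, ⟨p.2.1.2.symm, p.2.2⟩, p.2.1.1⟩
      left_inv := fun p => rfl
      right_inv := fun p => rfl }
  have hshear : n00 = n01 := Nat.card_congr
    { toFun := fun p => ⟨(p.1.1, p.1.1 * p.1.2), ⟨(Commute.refl _).mul_right p.2.1.1, p.2.1.2⟩,
        (Subgroup.mul_mem_iff_of_index_two h2).2 (iff_of_false p.2.1.2 p.2.2)⟩
      invFun := fun p => ⟨(p.1.1, p.1.1⁻¹ * p.1.2), ⟨((Commute.refl p.1.1).inv_right).mul_right p.2.1.1, p.2.1.2⟩,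
        fun h => p.2.1.2 (by
          have := H.mul_mem p.2.2 (H.inv_mem h)
          rwa [mul_inv_rev, inv_inv, mul_inv_cancel_left] at this)⟩
      left_inv := fun p => Subtype.ext (Prod.ext rfl (inv_mul_cancel_left _ _))
      right_inv := fun p => Subtype.ext (Prod.ext rfl (mul_inv_cancel_left _ _)) }
  have hcard := H.index_mul_card
  rw [h2] at hcard
  have hpos : 0 < Nat.card H := Nat.card_pos
  refine Nat.eq_of_mul_eq_mul_right (Nat.mul_pos two_pos hpos) ?_
  rw [← hcard] at hleft hall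
  nlinarith

theorem card_classes_le_inClass [Finite G] (H : Subgroup G) (h2 : H.index = 2) :
    Nat.card (InClass H) ≤ Nat.card (ConjClasses H) ∧
      Nat.card (ConjClasses H) ≤ Nat.card (InClass H) + Nat.card {C : ConjClasses G // SplitClass H C} := by
  classical
  have hn : H.Normal := Subgroup.normal_of_index_eq_two h2
  have hin : ∀ D : ConjClasses H, ∀ y, ConjClasses.mk y = ConjClasses.map H.subtype D → y ∈ H := by
    intro D y hy
    obtain ⟨x, rfl⟩ := ConjClasses.mk_surjective D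
    obtain ⟨c, hc⟩ := isConj_iff.1 (ConjClasses.mk_eq_mk_iff_isConj.1 hy).symm
    rw [← hc]
    exact hn.conj_mem _ x.2 c
  let π : ConjClasses H → InClass H := fun D => ⟨ConjClasses.map H.subtype D, hin D⟩
  have hsur : Function.Surjective π := fun C => by
    obtain ⟨x, hx⟩ := ConjClasses.mk_surjective C.1
    exact ⟨ConjClasses.mk ⟨x, C.2 x hx⟩, Subtype.ext hx⟩
  refine ⟨Nat.card_le_card_of_surjective π hsur, ?_⟩
  choose σ hσ using hsur
  have key : ∀ D, D ≠ σ (π D) → ∀ z, ConjClasses.mk z = (π D).1 → z ∈ H ∧ ∀ y, Commute y z → y ∈ H := by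
    intro D hD z hz
    refine ⟨(π D).2 z hz, fun y hy => ?_⟩
    by_contra hyH
    obtain ⟨x, hx⟩ := ConjClasses.mk_surjective D
    obtain ⟨x', hx'⟩ := ConjClasses.mk_surjective (σ (π D))
    have e1 : ConjClasses.mk (x : G) = (π D).1 := by rw [← hx]; rfl
    have e2 : ConjClasses.mk (x' : G) = (π D).1 := by rw [← congrArg Subtype.val (hσ (π D)), ← hx']; rfl
    obtain ⟨c, hc⟩ := isConj_iff.1 (ConjClasses.mk_eq_mk_iff_isConj.1 (e1.trans e2.symm))
    obtain ⟨c', hc'⟩ := isConj_iff.1 (ConjClasses.mk_eq_mk_iff_isConj.1 (e1.trans hz.symm))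
    by_cases hcH : c ∈ H
    · exact hD (hx.symm.trans ((ConjClasses.mk_eq_mk_iff_isConj.2 (isConj_iff.2 ⟨⟨c, hcH⟩, Subtype.ext hc⟩)).trans hx'))
    · have hw : c'⁻¹ * y * c' ∉ H := fun h => hyH (by
        have := hn.conj_mem _ h c'
        simpa [mul_assoc] using this)
      have hm : c * (c'⁻¹ * y * c') ∈ H := (Subgroup.mul_mem_iff_of_index_two h2).2 (iff_of_false hcH hw)
      refine hD (hx.symm.trans ((ConjClasses.mk_eq_mk_iff_isConj.2
        (isConj_iff.2 ⟨⟨_, hm⟩, Subtype.ext ?_⟩)).trans hx'))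
      show c * (c'⁻¹ * y * c') * x * (c * (c'⁻¹ * y * c'))⁻¹ = x'
      have hz' : z = c' * x * c'⁻¹ := hc'.symm
      have : y * z * y⁻¹ = z := by rw [hy.eq, mul_inv_cancel_right]
      rw [show c * (c'⁻¹ * y * c') * x * (c * (c'⁻¹ * y * c'))⁻¹ = c * (c'⁻¹ * (y * (c' * x * c'⁻¹) * y⁻¹) * c') * c⁻¹
        by group, ← hz', this, hz', ← hc]
      group
  let f : ConjClasses H → InClass H ⊕ {C : ConjClasses G // SplitClass H C} := fun D =>
    if h : D = σ (π D) then Sum.inl (π D) else Sum.inr ⟨(π D).1, key D h⟩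
  rw [← Nat.card_sum]
  refine Nat.card_le_card_of_injective f fun D D' h => ?_
  simp only [f] at h
  split_ifs at h with h1 h2' h2'
  · rw [h1, h2', Sum.inl.inj h]
  · have hπ : π D = π D' := Subtype.ext (congrArg (fun C : {C : ConjClasses G // SplitClass H C} => C.1) (Sum.inr.inj h))
    obtain ⟨x, hx⟩ := ConjClasses.mk_surjective D
    obtain ⟨x', hx'⟩ := ConjClasses.mk_surjective D'
    obtain ⟨w, hw⟩ := ConjClasses.mk_surjective (σ (π D))
    have a1 : ConjClasses.mk (x : G) = (π D).1 := by rw [← hx]; rfl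
    have a2 : ConjClasses.mk (x' : G) = (π D).1 := by rw [hπ, ← hx']; rfl
    have a0 : ConjClasses.mk (w : G) = (π D).1 := by rw [← congrArg Subtype.val (hσ (π D)), ← hw]; rfl
    obtain ⟨c, hc⟩ := isConj_iff.1 (ConjClasses.mk_eq_mk_iff_isConj.1 (a1.trans a0.symm))
    obtain ⟨c', hc'⟩ := isConj_iff.1 (ConjClasses.mk_eq_mk_iff_isConj.1 (a2.trans a0.symm))
    have hcH : c ∉ H := fun h => h1 (hx.symm.trans
      ((ConjClasses.mk_eq_mk_iff_isConj.2 (isConj_iff.2 ⟨⟨c, h⟩, Subtype.ext hc⟩)).trans hw))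
    have hcH' : c' ∉ H := fun h => h2' (hx'.symm.trans
      ((ConjClasses.mk_eq_mk_iff_isConj.2 (isConj_iff.2 ⟨⟨c', h⟩, Subtype.ext hc'⟩)).trans (hw.trans (congrArg σ hπ))))
    rw [← hx, ← hx']
    refine ConjClasses.mk_eq_mk_iff_isConj.2 (isConj_iff.2 ⟨⟨c'⁻¹ * c,
      (Subgroup.mul_mem_iff_of_index_two h2).2 (iff_of_false (mt H.inv_mem_iff.1 hcH') hcH)⟩, Subtype.ext ?_⟩)
    show c'⁻¹ * c * x * (c'⁻¹ * c)⁻¹ = x'
    rw [show c'⁻¹ * c * x * (c'⁻¹ * c)⁻¹ = c'⁻¹ * (c * x * c⁻¹) * c' by group, hc, ← hc']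
    group

/-- The bounds for a subgroup of index two. -/
theorem classes_index_two [Finite G] (H : Subgroup G) (h2 : H.index = 2) :
    Nat.card (ConjClasses G) ≤ 2 * Nat.card (ConjClasses H) ∧
      2 * Nat.card (ConjClasses H) ≤
        Nat.card (ConjClasses G) + 3 * Nat.card {C : ConjClasses G // SplitClass H C} := by
  obtain ⟨ha, hb⟩ := card_classes_le_inClass H h2
  have := three_mul_inClass H h2
  omega

end CfsgLib.ClassNumber
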