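import Cfsg.Agent.Lib.ClassCount.OrthOdd.Bounds
import Cfsg.Agent.Lib.ClassCount.OrthOdd.IndexTwo
import Cfsg.Agent.Lib.ClassCount.Orthogonal.Lower
import Cfsg.Agent.Lib.Classical.Quad.OmegaIndex

/-!
# The class number of `Ω (2n + 1, q)`, `q` odd
-/

set_option autoImplicit false

open Polynomial Matrix
open scoped _root_.Classical
open CfsgLib.Classical CfsgLib.Classical.ClassTheory
open QuadraticMap (polarBilin)

namespace CfsgLib.ClassNumber

universe u

variable {F : Type u} [Field F] [Fintype F] {κ : Type} [Fintype κ] [DecidableEq κ]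

theorem commute_conj_inv {G : Type*} [Group G] {h y c : G} (hy : Commute h y) :
    Commute (c⁻¹ * h * c) (c⁻¹ * y * c) := by
  have := hy.map (MulAut.conj c⁻¹).toMonoidHom
  simpa using this

omit [Fintype F] in
theorem charpoly_neg' (M : Matrix κ κ F) :
    (-M).charpoly = (-1) ^ Fintype.card κ * M.charpoly.comp (-X) := by
  have h : M.charpoly.comp (-X) = (Polynomial.compRingHom (-X) : F[X] →+* F[X]) M.charpoly := rfl
  have e : charmatrix (-M) = -((Polynomial.compRingHom (-X) : F[X] →+* F[X]).mapMatrix (charmatrix M)) := by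
    ext i j : 1
    by_cases hij : i = j
    · subst hij
      simp [charmatrix_apply_eq]
      ring
    · simp [charmatrix_apply_ne _ _ _ hij]
  rw [h, Matrix.charpoly, Matrix.charpoly, RingHom.map_det, e, det_neg]

omit [Fintype F] in
theorem odd_rootMult_two (h2 : (2 : F) ≠ 0) {f : F[X]} (hf : f.Monic) :
    Odd ((f * f * (X - C 2)).rootMultiplicity 2) := by
  have hd := monic_X_sub_C (2 : F)
  rw [rootMultiplicity_mul ((hf.mul hf).mul hd).ne_zero, rootMultiplicity_mul (hf.mul hf).ne_zero,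
    rootMultiplicity_X_sub_C_self]
  exact ⟨_, by ring⟩

omit [Fintype F] in
theorem not_charpoly_neg (h2 : (2 : F) ≠ 0) {f g : F[X]} (hf : f.Monic) (hg : g.Monic) {ε : F[X]}
    (h : f * f * (X - C 2) = ε * (g * g * (X - C 2)).comp (-X)) (hε : ε = 1 ∨ ε = -1) : False := by
  have ho := odd_rootMult_two h2 hf
  set p := g.comp (-X)
  have hp : p ≠ 0 := fun e => hg.ne_zero (Polynomial.comp_neg_X_eq_zero_iff.1 e)
  have e : (g * g * (X - C 2)).comp (-X) = -(p * p * (X - C (-2))) := by
    simp only [mul_comp, sub_comp, X_comp, C_comp, map_neg, p]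
    ring
  have hne : X - C (-2 : F) ≠ 0 := (monic_X_sub_C _).ne_zero
  have hne2 : (2 : F) ≠ -2 := fun e => by
    have h4 : (2 : F) * 2 = 0 := by linear_combination e
    exact h2 (mul_self_eq_zero.1 h4)
  have key : ((p * p * (X - C (-2)))).rootMultiplicity 2 = 2 * p.rootMultiplicity 2 := by
    rw [rootMultiplicity_mul (mul_ne_zero (mul_ne_zero hp hp) hne), rootMultiplicity_mul (mul_ne_zero hp hp),
      rootMultiplicity_eq_zero (p := X - C (-2 : F)) (by
        rw [IsRoot.def, eval_sub, eval_X, eval_C]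
        exact sub_ne_zero.2 hne2)]
    ring
  rw [h, e] at ho
  rcases hε with rfl | rfl
  · rw [one_mul, show -(p * p * (X - C (-2))) = C (-1 : F) * (p * p * (X - C (-2))) by simp,
      rootMultiplicity_mul (mul_ne_zero (by simp) (mul_ne_zero (mul_ne_zero hp hp) hne)), rootMultiplicity_C, key] at ho
    exact Nat.not_even_iff_odd.2 ho ⟨p.rootMultiplicity 2, by ring⟩
  · rw [neg_mul, one_mul, neg_neg, key] at ho
    exact Nat.not_even_iff_odd.2 ho ⟨p.rootMultiplicity 2, by ring⟩

/-- An isometry for each monic polynomial of degree `n`. -/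
theorem exists_isometry_charpoly (h2 : (2 : F) ≠ 0) {n : ℕ} (Q : QuadraticForm F (κ → F))
    (hQ : (polarBilin Q).Nondegenerate) (hκ : Fintype.card κ = 2 * n + 1) {f : F[X]} (hf : f.Monic)
    (hn : f.natDegree = n) :
    ∃ g : ↥(Cfsg.isometryGroup F (⇑Q)),
      (((g : GL κ F) : Matrix κ κ F) + (((g : GL κ F)⁻¹ : GL κ F) : Matrix κ κ F)).charpoly = f * f * (X - C 2) := by
  set G := LinearMap.toMatrix₂' F (polarBilin Q)
  have hG : ∀ u v, polarBilin Q u v = u ⬝ᵥ G *ᵥ v := fun u v => by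
    rw [← Matrix.toLinearMap₂'_apply', Matrix.toLinearMap₂'_toMatrix']
  have hGt : Gᵀ = G := gram_ext fun x y => by
    rw [mulVec_transpose, dotProduct_comm, ← dotProduct_mulVec, ← hG, ← hG]
    exact QuadraticMap.polar_comm _ _ _
  have hG0 : G.det ≠ 0 := fun h0 => by
    obtain ⟨y, hy0, hy⟩ := Matrix.exists_mulVec_eq_zero_iff.2 h0
    exact hy0 (hQ.2 y fun u => by rw [hG, hy, dotProduct_zero])
  obtain ⟨ε, hε, ι, _, _, B, a, a', hcard, hB, hdet, haa, hpres, hchar⟩ := (realizesO_exists h2 _ f hf rfl).1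
  have hB0 : B.det ≠ 0 := fun h0 => by
    rw [h0, MulChar.map_zero] at hdet
    rcases hε with rfl | rfl <;> norm_num at hdet
  set c : F := B.det * G.det
  set B₁ : Matrix (ι ⊕ Unit) (ι ⊕ Unit) F := fromBlocks B 0 0 (diagonal fun _ => c)
  set a₁ : Matrix (ι ⊕ Unit) (ι ⊕ Unit) F := fromBlocks a 0 0 1
  set b₁ : Matrix (ι ⊕ Unit) (ι ⊕ Unit) F := fromBlocks a' 0 0 1
  let σ : κ ≃ ι ⊕ Unit := Fintype.equivOfCardEq (by rw [hκ, Fintype.card_sum, hcard, hn, Fintype.card_unit])
  have hdet₁ : (B₁.submatrix σ σ).det = B.det * c := by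
    rw [det_submatrix_equiv_self, det_fromBlocks_zero₁₂, det_diagonal, Finset.prod_const, Finset.card_univ,
      Fintype.card_unit, pow_one]
  have hB1 : (B₁.submatrix σ σ).det ≠ 0 := by rw [hdet₁]; exact mul_ne_zero hB0 (mul_ne_zero hB0 hG0)
  have hB1t : (B₁.submatrix σ σ)ᵀ = B₁.submatrix σ σ := by
    rw [transpose_submatrix, fromBlocks_transpose, hB, diagonal_transpose, transpose_zero, transpose_zero]
  obtain ⟨P, hP0, hP⟩ := exists_congr_block h2 hB1 hG0
    (Or.inl ⟨hB1t, hGt, by rw [hdet₁]; exact ⟨B.det * G.det, by ring⟩⟩)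
  let Pu : GL κ F := Matrix.GeneralLinearGroup.mkOfDetNeZero P hP0
  let au : GL κ F := ⟨a₁.submatrix σ σ, b₁.submatrix σ σ,
    by rw [submatrix_mul_equiv, fromBlocks_multiply]; simp [haa, fromBlocks_one],
    by rw [submatrix_mul_equiv, fromBlocks_multiply]; simp [mul_eq_one_comm.1 haa, fromBlocks_one]⟩
  have hau : (au : Matrix κ κ F)ᵀ * B₁.submatrix σ σ * (au : Matrix κ κ F) = B₁.submatrix σ σ := by
    show (a₁.submatrix σ σ)ᵀ * B₁.submatrix σ σ * a₁.submatrix σ σ = _
    rw [transpose_submatrix, submatrix_mul_equiv, submatrix_mul_equiv, fromBlocks_transpose, fromBlocks_multiply,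
      fromBlocks_multiply]
    simp [hpres, B₁]
  have hmem : Pu⁻¹ * au * Pu ∈ Cfsg.isometryGroup F (⇑Q) := by
    intro u _
    set M := ((Pu⁻¹ * au * Pu : GL κ F) : Matrix κ κ F)
    have hPu : (Pu : Matrix κ κ F) = P := rfl
    have hM : Mᵀ * G * M = G := by
      simp only [M, Units.val_mul, transpose_mul, ← hP, hPu]
      calc _ = Pᵀ * ((au : Matrix κ κ F)ᵀ * ((P * ((Pu⁻¹ : GL κ F) : Matrix κ κ F))ᵀ * B₁.submatrix σ σ *
            (P * ((Pu⁻¹ : GL κ F) : Matrix κ κ F))) * (au : Matrix κ κ F)) * P := by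
            simp only [transpose_mul, mul_assoc]
        _ = _ := by
            rw [show P * ((Pu⁻¹ : GL κ F) : Matrix κ κ F) = 1 from hPu ▸ Pu.mul_inv, transpose_one, one_mul, mul_one, hau]
    show Q (M *ᵥ u) = Q u
    refine mul_left_cancel₀ h2 ?_
    have e : polarBilin Q (M *ᵥ u) (M *ᵥ u) = polarBilin Q u u := by
      rw [hG, hG, dotProduct_mulVec, vecMul_mulVec, ← dotProduct_mulVec, mulVec_mulVec, hM]
    rwa [QuadraticMap.polarBilin_apply_apply, QuadraticMap.polarBilin_apply_apply, QuadraticMap.polar_self,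
      QuadraticMap.polar_self, two_nsmul, two_nsmul, ← two_mul, ← two_mul] at e
  refine ⟨⟨_, hmem⟩, ?_⟩
  show (((Pu⁻¹ * au * Pu : GL κ F) : Matrix κ κ F) + (((Pu⁻¹ * au * Pu)⁻¹ : GL κ F) : Matrix κ κ F)).charpoly = _
  rw [_root_.mul_inv_rev, _root_.mul_inv_rev, inv_inv, ← mul_assoc Pu⁻¹, Units.val_mul, Units.val_mul, Units.val_mul,
    Units.val_mul, ← add_mul, ← mul_add, Matrix.coe_units_inv, Matrix.charpoly_units_conj']
  show (a₁.submatrix σ σ + b₁.submatrix σ σ).charpoly = _
  have e : (a₁.submatrix σ σ + b₁.submatrix σ σ) = Matrix.reindex σ.symm σ.symm (a₁ + b₁) := by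
    rw [Matrix.reindex_apply, Equiv.symm_symm]; rfl
  rw [e, Matrix.charpoly_reindex]
  simp only [a₁, b₁, fromBlocks_add, add_zero, charpoly_fromBlocks_zero₁₂, hchar]
  congr 1
  rw [Matrix.charpoly, det_unique, charmatrix_apply_eq]
  norm_num

/-- The bounds. -/
theorem omega_odd_bounds (hodd : Odd (Fintype.card F)) (n : ℕ) (hn : 1 ≤ n) (Q : QuadraticForm F (κ → F))
    (hQ : (polarBilin Q).Nondegenerate) (hκ : Fintype.card κ = 2 * n + 1) :
    Fintype.card F ^ n ≤ 2 * Nat.card (ConjClasses ↥(Cfsg.Omega F (⇑Q))) ∧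
      10 * Nat.card (ConjClasses ↥(Cfsg.Omega F (⇑Q))) ≤ 73 * Fintype.card F ^ n := by
  obtain ⟨p, hpF⟩ := CharP.exists F
  obtain ⟨k, hpp, hk⟩ := FiniteField.card F p
  have : Fact p.Prime := ⟨hpp⟩
  have hp : p ≠ 2 := by
    rintro rfl
    rw [hk] at hodd
    exact Nat.not_even_iff_odd.2 hodd ((Nat.even_pow.2 ⟨even_two, k.ne_zero⟩))
  have h2 : (2 : F) ≠ 0 := fun h => hp ((Nat.prime_dvd_prime_iff_eq hpp Nat.prime_two).1
    ((CharP.cast_eq_zero_iff F p 2).1 (by exact_mod_cast h)))
  have hq : 3 ≤ Fintype.card F := by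
    have := Fintype.one_lt_card (α := F)
    rcases hodd with ⟨r, hr⟩
    omega
  have hex : (∃ c : F, c ≠ 0 ∧ c ≠ 1) ∨ Fintype.card κ ≠ 4 := Quad.hex_of_two_ne_zero h2
  have hcard2 : 2 ≤ Fintype.card κ := by omega
  set O := ↥(Cfsg.isometryGroup F (⇑Q))
  let E := Quad.oEquiv Q
  let φ : O →* Multiplicative (ZMod 2) :=
    (MonoidHom.fst (Multiplicative (ZMod 2)) (Quad.SqClass F)).comp (Quad.invHomM hQ hex)
  set K := φ.ker
  set W := Cfsg.Omega F (⇑Q)
  have hW : (Quad.invHomM hQ hex).ker = W := Quad.ker_invHomM hQ hex hcard2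
  -- the negation
  let z : O := E.symm (Quad.ofPreserves hQ (-LinearMap.id) fun v => by simp [QuadraticMap.map_neg])
  have hzE : ∀ v, (E z : (κ → F) ≃ₗ[F] (κ → F)) v = -v := fun v => by
    simp only [z, MulEquiv.apply_symm_apply]; rfl
  have hzM : ((z : GL κ F) : Matrix κ κ F) = -1 := by
    refine Matrix.ext_of_mulVec_single fun i => ?_
    rw [← Quad.oEquiv_apply, hzE, neg_mulVec, one_mulVec]
  have hzc : ∀ g : O, Commute z g := fun g => Subtype.ext (Units.ext (by
    show ((z : GL κ F) : Matrix κ κ F) * _ = _ * ((z : GL κ F) : Matrix κ κ F)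
    rw [hzM, neg_one_mul, mul_neg_one]))
  have hzφ : φ z = Multiplicative.ofAdd 1 := by
    show Multiplicative.ofAdd (Module.finrank F (Quad.mov (E z)) : ZMod 2) = Multiplicative.ofAdd 1
    have htop : Quad.mov (E z) = ⊤ := eq_top_iff.2 fun v _ => ⟨(2 : F)⁻¹ • v, by
      rw [Quad.movMap_apply, hzE, sub_neg_eq_add, ← add_smul, ← two_mul, mul_inv_cancel₀ h2, one_smul]⟩
    rw [htop, finrank_top, Module.finrank_pi, hκ]
    have h0 : ((2 * n : ℕ) : ZMod 2) = 0 := (ZMod.natCast_eq_zero_iff_even).2 ⟨n, by ring⟩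
    rw [Nat.cast_succ, h0, zero_add]
  have hzK : z ∉ K := fun h => by
    rw [MonoidHom.mem_ker, hzφ] at h
    exact absurd h (by decide)
  have hφ2 : ∀ g : O, g ∉ K → φ g = Multiplicative.ofAdd 1 := fun g hg => by
    have : φ g ≠ 1 := hg
    revert this
    generalize φ g = x
    revert x
    decide
  have hzK' : ∀ g : O, g ∉ K → z * g ∈ K := fun g hg => by
    rw [MonoidHom.mem_ker, map_mul, hzφ, hφ2 g hg]
    decide
  let tw : Bool → O → O := fun b x => if b then z * x else x
  have htwK : ∀ b (x : K), tw b x ∈ K ↔ b = false := by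
    intro b x
    cases b
    · simp [tw]
    · simp only [tw, if_true, Bool.true_eq_false, iff_false]
      exact fun h => hzK ((K.mul_mem_cancel_right x.2).1 h)
  have htwc : ∀ b x c, c * tw b x * c⁻¹ = tw b (c * x * c⁻¹) := by
    intro b x c
    cases b
    · rfl
    · simp only [tw, if_true]
      rw [← mul_assoc c z, ← (hzc c).eq, mul_assoc z c, mul_assoc z]
  -- classes of `K` in `O`
  let f : ConjClasses K × Bool → ConjClasses O := fun x => ConjClasses.mk (tw x.2 (Quotient.out x.1 : K))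
  have hf : Function.Injective f := by
    rintro ⟨C, b⟩ ⟨C', b'⟩ h
    obtain ⟨c, hc⟩ := isConj_iff.1 (ConjClasses.mk_eq_mk_iff_isConj.1 h)
    have hb : b = b' := by
      have h1 : φ (tw b (Quotient.out C : K)) = φ (tw b' (Quotient.out C' : K)) := by
        rw [← hc, map_mul, map_mul, map_inv, mul_comm (φ c), mul_inv_cancel_right]
      have e : ∀ b (x : K), φ (tw b x) = 1 ↔ b = false := htwK
      have := (e b (Quotient.out C)).symm.trans ((by rw [h1]) : _ ↔ φ (tw b' (Quotient.out C' : K)) = 1)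
      have := this.trans (e b' (Quotient.out C'))
      exact (by decide : ∀ x y : Bool, (x = false ↔ y = false) → x = y) b b' this
    subst hb
    rw [htwc] at hc
    have hcx : c * (Quotient.out C : K) * c⁻¹ = ((Quotient.out C' : K) : O) := by
      cases b
      · exact hc
      · exact mul_left_cancel (hc : z * _ = z * _)
    refine Prod.ext ?_ rfl
    show C = C'
    rw [← Quotient.out_eq C, ← Quotient.out_eq C']
    refine Quotient.sound (isConj_iff.2 ?_)
    by_cases hcK : c ∈ K
    · exact ⟨⟨c, hcK⟩, Subtype.ext hcx⟩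
    · refine ⟨⟨z * c, hzK' c hcK⟩, Subtype.ext ?_⟩
      show z * c * (Quotient.out C : K) * (z * c)⁻¹ = ((Quotient.out C' : K) : O)
      rw [_root_.mul_inv_rev, ← mul_assoc, mul_assoc z c, mul_assoc z, hcx, (hzc _).eq, mul_inv_cancel_right]
  have hKO : 2 * Nat.card (ConjClasses K) ≤ Nat.card (ConjClasses O) := by
    have := Nat.card_le_card_of_injective f hf
    rwa [Nat.card_prod, Nat.card_eq_fintype_card (α := Bool), Fintype.card_bool, mul_comm] at this
  -- `Ω` in `K`
  have hWK : W ≤ K := fun x hx => by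
    rw [← hW, MonoidHom.mem_ker] at hx
    show (Quad.invHomM hQ hex x).1 = 1
    rw [hx]; rfl
  have hKi : K.index = 2 := by
    rw [Subgroup.index_ker, MonoidHom.range_eq_top.2 fun y => ?_, Subgroup.card_top]
    · simp
    · obtain ⟨g, hg⟩ := Quad.invHomM_surjective hQ hex hcard2 (y, 1)
      exact ⟨g, congrArg Prod.fst hg⟩
  have hindex : (W.subgroupOf K).index = 2 := by
    have h := Subgroup.relIndex_mul_index hWK
    rw [hKi, Quad.index_Omega hQ hex hcard2, Quad.card_sqClass_of_odd h2] at h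
    exact Nat.eq_of_mul_eq_mul_right two_pos h
  obtain ⟨hlow, hup⟩ := classes_index_two (W.subgroupOf K) hindex
  have hiso : Nat.card (ConjClasses ↥(W.subgroupOf K)) = Nat.card (ConjClasses ↥W) := by
    let e := Subgroup.subgroupOfEquivOfLe hWK
    refine Nat.card_congr ⟨ConjClasses.map e.toMonoidHom, ConjClasses.map e.symm.toMonoidHom, fun C => ?_, fun C => ?_⟩
    · obtain ⟨x, rfl⟩ := ConjClasses.mk_surjective C
      exact congrArg ConjClasses.mk (e.symm_apply_apply x)
    · obtain ⟨x, rfl⟩ := ConjClasses.mk_surjective C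
      exact congrArg ConjClasses.mk (e.apply_symm_apply x)
  rw [hiso] at hlow hup
  -- split classes
  let T := {C : ConjClasses O // ∀ x, ConjClasses.mk x = C → TrivialSpinor Q hQ hex x}
  have htriv : ∀ (C : {C : ConjClasses K // SplitClass (W.subgroupOf K) C}) (b : Bool),
      ∀ y, ConjClasses.mk y = f (C.1, b) → TrivialSpinor Q hQ hex y := by
    intro C b y hy h hcomm hpar
    obtain ⟨c, hc⟩ := isConj_iff.1 (ConjClasses.mk_eq_mk_iff_isConj.1 hy).symm
    set x : K := Quotient.out C.1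
    have hcomm' : Commute (c⁻¹ * h * c) (tw b x) := by
      have hc' : c * tw b x * c⁻¹ = y := hc
      have e : c⁻¹ * y * c = tw b x := by
        rw [← hc', ← mul_assoc, ← mul_assoc, inv_mul_cancel, one_mul, inv_mul_cancel_right]
      exact e ▸ commute_conj_inv hcomm
    have hcx : Commute (c⁻¹ * h * c) (x : O) := by
      cases b
      · simpa [tw] using hcomm'
      · have e := ((hzc (c⁻¹ * h * c)).symm.inv_right).mul_right hcomm'
        simpa [tw] using e
    have hhK : c⁻¹ * h * c ∈ K := by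
      have hp1 : φ h = 1 := hpar
      rw [MonoidHom.mem_ker, map_mul, map_mul, hp1, mul_one, ← map_mul, inv_mul_cancel, map_one]
    have hmem := (C.2 x (Quotient.out_eq C.1)).2 ⟨_, hhK⟩ (Subtype.ext hcx.eq)
    have hmem' : c⁻¹ * h * c ∈ W := Subgroup.mem_subgroupOf.1 hmem
    rw [← hW, MonoidHom.mem_ker] at hmem'
    simpa [map_mul, map_inv, mul_comm, mul_left_comm] using hmem'
  have hS : 2 * Nat.card {C : ConjClasses K // SplitClass (W.subgroupOf K) C} ≤ Nat.card T := by
    have := Nat.card_le_card_of_injective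
      (fun x : {C : ConjClasses K // SplitClass (W.subgroupOf K) C} × Bool => (⟨f (x.1.1, x.2), htriv x.1 x.2⟩ : T))
      fun x x' h => by
        have e := hf (congrArg Subtype.val h)
        exact Prod.ext (Subtype.ext (congrArg Prod.fst e :)) (congrArg Prod.snd e :)
    rwa [Nat.card_prod, Nat.card_eq_fintype_card (α := Bool), Fintype.card_bool, mul_comm] at this
  have hNodd : Odd (2 * n + 1) := ⟨n, rfl⟩
  have hT : Nat.card T ≤ Nat.card (PTup F (2 * n + 1)) := card_trivialSpinor_le hp Q hQ hex hκ hNodd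
  have hO := two_mul_classes_le hp Q hQ hκ
  have hnone : Nat.card {t : SgnTupO F (2 * n + 1) // ¬ ∃ i, SignAt t.1.1 i} = 0 := by
    refine Nat.le_zero.1 ((card_noSign_le h2 _).trans_eq (Finset.sum_eq_zero fun m hm => ?_))
    obtain ⟨i, hi⟩ : ∃ i : Fin (2 * n + 1), Odd (m i) := by
      by_contra hc
      push Not at hc
      have hsum := (mem_sol one_ne_zero m).1 hm
      have : Even (∑ i : Fin (2 * n + 1), (1 + (i : ℕ)) * m i) :=
        Finset.even_sum _ fun i _ => (Nat.not_odd_iff_even.1 (hc i)).mul_left _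
      rw [hsum] at this
      exact Nat.not_even_iff_odd.2 hNodd this
    exact Finset.prod_eq_zero (Finset.mem_univ i) (by rw [cN, if_pos hi])
  obtain ⟨hT1, hT2⟩ := tuple_bounds hq hodd hn
  have hs1 := card_sgnTupO_le (F := F) h2 (2 * n + 1)
  have hs2 := card_pTup_le (F := F) h2 (2 * n + 1)
  have hsum : 10 * Nat.card (ConjClasses ↥W) ≤ 73 * Fintype.card F ^ n := by
    generalize Nat.card (ConjClasses ↥W) = kW at hup
    generalize Nat.card (ConjClasses K) = kK at hup hKO
    generalize Nat.card {C : ConjClasses K // SplitClass (W.subgroupOf K) C} = ks at hup hS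
    generalize Nat.card T = kT at hS hT
    generalize Nat.card (PTup F (2 * n + 1)) = kP at hT hs2
    generalize Nat.card (SgnTupO F (2 * n + 1)) = kS at hO hs1
    rw [hnone, add_zero] at hO
    change 2 * Nat.card (ConjClasses O) ≤ kS at hO
    generalize Nat.card (ConjClasses O) = kO at hKO hO
    omega
  refine ⟨le_trans ?_ hlow, hsum⟩
  -- lower bound
  let Mons := {g : F[X] // g.Monic ∧ g.natDegree = n}
  have hMons : Fintype.card F ^ n = Nat.card Mons := by
    rw [Nat.card_congr ((Polynomial.monicEquivDegreeLT n).trans (Polynomial.degreeLTEquiv F n).toEquiv),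
      Nat.card_fun, Nat.card_fin, Nat.card_eq_fintype_card]
  choose g hg using fun m : Mons => exists_isometry_charpoly h2 Q hQ hκ m.2.1 m.2.2
  let S : O → F[X] := fun x => (((x : GL κ F) : Matrix κ κ F) + (((x : GL κ F)⁻¹ : GL κ F) : Matrix κ κ F)).charpoly
  have hSconj : ∀ c x : O, S (c * x * c⁻¹) = S x := by
    intro c x
    simp only [S]
    rw [show ((c * x * c⁻¹ : O) : GL κ F) = (c : GL κ F) * (x : GL κ F) * (c : GL κ F)⁻¹ from rfl, _root_.mul_inv_rev,
      _root_.mul_inv_rev, inv_inv, ← mul_assoc ((c : GL κ F)), Units.val_mul, Units.val_mul, Units.val_mul,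
      Units.val_mul, ← add_mul, ← mul_add]
    simp only [Matrix.coe_units_inv]
    rw [Matrix.charpoly_units_conj]
  have hzinv : (((z : GL κ F)⁻¹ : GL κ F) : Matrix κ κ F) = -1 := by
    rw [inv_eq_of_mul_eq_one_right (Units.ext (by rw [Units.val_mul, hzM, neg_mul_neg, mul_one, Units.val_one]) :
      (z : GL κ F) * (z : GL κ F) = 1), hzM]
  have hSz : ∀ x : O, S (z * x) = (-1) ^ Fintype.card κ * (S x).comp (-X) := by
    intro x
    simp only [S]
    rw [show ((z * x : O) : GL κ F) = (z : GL κ F) * (x : GL κ F) from rfl, _root_.mul_inv_rev, Units.val_mul,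
      Units.val_mul, hzinv, hzM, neg_one_mul, mul_neg_one, ← neg_add, charpoly_neg']
  let rep : Mons → K := fun m => if h : g m ∈ K then ⟨g m, h⟩ else ⟨z * g m, hzK' _ h⟩
  rw [hMons]
  refine Nat.card_le_card_of_injective (fun m => ConjClasses.mk (rep m)) fun m m' h => ?_
  obtain ⟨c, hc⟩ := isConj_iff.1 (ConjClasses.mk_eq_mk_iff_isConj.1 h)
  have e : S (rep m) = S (rep m') := by
    rw [← hc]
    exact (hSconj c (rep m)).symm
  have hlead : ((-1 : F[X]) ^ Fintype.card κ) = 1 ∨ ((-1 : F[X]) ^ Fintype.card κ) = -1 := neg_one_pow_eq_or _ _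
  have fin : ∀ a b : Mons, a.1 * a.1 * (X - C 2) = b.1 * b.1 * (X - C 2) → a = b := fun a b hab => by
    refine Subtype.ext ?_
    rcases mul_self_eq_mul_self_iff.1 (mul_right_cancel₀ (monic_X_sub_C (2 : F)).ne_zero hab) with h' | h'
    · exact h'
    · exfalso
      have := congrArg Polynomial.leadingCoeff h'
      rw [leadingCoeff_neg, a.2.1.leadingCoeff, b.2.1.leadingCoeff] at this
      exact h2 (by linear_combination this)
  by_cases hm : g m ∈ K <;> by_cases hm' : g m' ∈ K <;> simp only [rep, dif_pos, dif_neg, hm, hm', not_false_iff] at e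
  · exact fin m m' (by rw [← hg m, ← hg m']; exact e)
  · rw [hSz] at e
    exact (not_charpoly_neg h2 m.2.1 m'.2.1 (by rw [← hg m, ← hg m']; exact e) hlead).elim
  · rw [hSz] at e
    exact (not_charpoly_neg h2 m'.2.1 m.2.1 (by rw [← hg m, ← hg m']; exact e.symm) hlead).elim
  · rw [hSz, hSz] at e
    have e' := congrArg (fun p : F[X] => p.comp (-X)) (mul_left_cancel₀ (pow_ne_zero _ (by norm_num)) e)
    simp only [Polynomial.comp_neg_X_comp_neg_X] at e'
    exact fin m m' (by rw [← hg m, ← hg m']; exact e')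

end CfsgLib.ClassNumber
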