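import Cfsg.Agent.Lib.ClassCount.OrthOdd.Blocks
import Cfsg.Agent.Lib.Classical.Quad.SpinorNorm

/-!
# Centralizers with trivial spinor norm

If every proper isometry commuting with `g` has trivial spinor norm, all invariant nondegenerate
subspaces of odd dimension have the discriminant of the whole space.
-/

set_option autoImplicit false

namespace CfsgLib.ClassNumber

open QuadraticMap (polar polarBilin)
open LinearMap (BilinForm)
open scoped _root_.Classical
open CfsgLib.Classical

universe u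

variable {F : Type u} [Field F] [Fintype F] {V : Type u} [AddCommGroup V] [Module F V] [FiniteDimensional F V]
variable {Q : QuadraticForm F V}

/-- The negation of a nondegenerate subspace. -/
theorem exists_negOn (hQ : (polarBilin Q).Nondegenerate) (hR : Quad.reflGroup Q = ⊤) (h2 : (2 : F) ≠ 0)
    (g : Quad.OQ Q) {W : Submodule F V} (hW : ∀ v ∈ W, (g : V ≃ₗ[F] V) v ∈ W)
    (hWn : (LinearMap.BilinForm.restrict (polarBilin Q) W).Nondegenerate) :
    ∃ (h : Quad.OQ Q) (D : F), Commute h g ∧ D ≠ 0 ∧ discChar (LinearMap.BilinForm.restrict (polarBilin Q) W) = quadraticChar F D ∧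
      Quad.invHom hQ hR h = (Multiplicative.ofAdd (Module.finrank F W : ZMod 2),
        Quad.sqc ((2 : F)⁻¹ ^ Module.finrank F W * D)) := by
  have hrefl : (polarBilin Q).IsRefl := fun u v h => by
    rw [QuadraticMap.polarBilin_apply_apply] at h ⊢
    rwa [QuadraticMap.polar_comm]
  have hc := LinearMap.BilinForm.isCompl_orthogonal_of_restrict_nondegenerate hrefl hWn
  set U := LinearMap.BilinForm.orthogonal (polarBilin Q) W
  set P := Submodule.projectionOnto W U hc
  set f : V →ₗ[F] V := LinearMap.id - (2 : F) • (W.subtype ∘ₗ P)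
  have hfv : ∀ v, f v = v - (2 : F) • ((P v : W) : V) := fun v => rfl
  have hdec : ∀ v, ∃ w ∈ W, ∃ u ∈ U, v = w + u ∧ f v = -w + u := fun v => by
    obtain ⟨w, u, hw, hu, rfl⟩ := Submodule.codisjoint_iff_exists_add_eq.1 hc.codisjoint v
    refine ⟨w, hw, u, hu, rfl, ?_⟩
    have e1 : P w = ⟨w, hw⟩ := Submodule.projectionOnto_apply_left hc ⟨w, hw⟩
    have e2 : P u = 0 := (Submodule.projectionOnto_apply_eq_zero_iff hc).2 hu
    rw [hfv, map_add, e1, e2, add_zero, two_smul]
    abel
  have hperp : ∀ w ∈ W, ∀ u ∈ U, polar Q w u = 0 := fun w hw u hu =>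
    LinearMap.BilinForm.mem_orthogonal_iff.1 hu w hw
  have hfQ : ∀ v, Q (f v) = Q v := fun v => by
    obtain ⟨w, hw, u, hu, rfl, hf⟩ := hdec v
    rw [hf, QuadraticMap.map_add Q (-w) u, QuadraticMap.map_add Q w u, QuadraticMap.map_neg,
      hperp w hw u hu, hperp (-w) (W.neg_mem hw) u hu]
  set h := Quad.ofPreserves hQ f hfQ
  have hU : ∀ v ∈ U, (g : V ≃ₗ[F] V) v ∈ U := by
    intro v hv
    refine LinearMap.BilinForm.mem_orthogonal_iff.2 fun w hw => ?_
    obtain ⟨⟨w', hw'⟩, rfl⟩ : ∃ w' : W, (g : V ≃ₗ[F] V) w' = w := by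
      have hinj : Function.Injective (((g : V ≃ₗ[F] V) : V →ₗ[F] V).restrict hW) := fun a b e =>
        Subtype.ext ((g : V ≃ₗ[F] V).injective (congrArg Subtype.val e :))
      obtain ⟨w', e⟩ := LinearMap.injective_iff_surjective.1 hinj ⟨w, hw⟩
      exact ⟨w', congrArg Subtype.val e⟩
    show polar Q ((g : V ≃ₗ[F] V) w') ((g : V ≃ₗ[F] V) v) = 0
    rw [Quad.OQ.map_polar]
    exact hperp w' hw' v hv
  have hfW : ∀ w ∈ W, f w = -w := fun w hw => by
    rw [hfv, show P w = ⟨w, hw⟩ from Submodule.projectionOnto_apply_left hc ⟨w, hw⟩, two_smul]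
    abel
  have hfU : ∀ u ∈ U, f u = u := fun u hu => by
    rw [hfv, (Submodule.projectionOnto_apply_eq_zero_iff hc).2 hu]
    simp
  have hcomm : Commute h g := by
    refine Subtype.ext (LinearEquiv.ext fun v => ?_)
    show f ((g : V ≃ₗ[F] V) v) = (g : V ≃ₗ[F] V) (f v)
    obtain ⟨w, hw, u, hu, rfl, hf⟩ := hdec v
    rw [hf, map_add, map_add, map_add, hfW _ (hW w hw), hfU _ (hU u hu), map_neg]
  set b := Module.finBasis F W
  set x : Fin (Module.finrank F W) → V := fun i => b i
  set G : Matrix (Fin (Module.finrank F W)) (Fin (Module.finrank F W)) F := Matrix.of fun i k => polar Q (x i) (x k)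
  have hform : ∀ u v : W, (LinearMap.BilinForm.restrict (polarBilin Q) W) u v = b.equivFun u ⬝ᵥ G.mulVec (b.equivFun v) := fun u v => by
    conv_lhs => rw [← b.sum_equivFun u, ← b.sum_equivFun v]
    simp only [map_sum, map_smul, LinearMap.sum_apply, LinearMap.smul_apply, smul_eq_mul,
      dotProduct, Matrix.mulVec, G, Matrix.of_apply, Finset.mul_sum]
    rw [Finset.sum_comm]
    refine Finset.sum_congr rfl fun i _ => Finset.sum_congr rfl fun k _ => ?_
    show _ * (_ * polar Q (x i) (x k)) = _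
    ring
  have hli : LinearIndependent F x := b.linearIndependent.map' W.subtype (Submodule.ker_subtype _)
  have hsp : Submodule.span F (Set.range x) = Quad.mov h := by
    have hspW : Submodule.span F (Set.range x) = W := by
      have := congrArg (Submodule.map W.subtype) b.span_eq
      rw [Submodule.map_span, Submodule.map_top, Submodule.range_subtype, ← Set.range_comp] at this
      exact this
    rw [hspW]
    refine le_antisymm ?_ ?_
    · intro w hw
      refine ⟨(2 : F)⁻¹ • w, ?_⟩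
      rw [Quad.movMap_apply]
      show _ - f _ = w
      rw [map_smul, hfW w hw, smul_neg, sub_neg_eq_add, ← add_smul, ← two_mul, mul_inv_cancel₀ h2, one_smul]
    · intro y hy
      obtain ⟨v, rfl⟩ := hy
      rw [Quad.movMap_apply]
      show v - f v ∈ W
      obtain ⟨w, hw, u, hu, rfl, hf⟩ := hdec v
      rw [hf, show w + u - (-w + u) = w + w by abel]
      exact W.add_mem hw hw
  have hz : ∀ i, Quad.movMap h ((2 : F)⁻¹ • x i) = x i := fun i => by
    rw [Quad.movMap_apply]
    show _ - f _ = x i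
    rw [map_smul, hfW _ (b i).2, smul_neg, sub_neg_eq_add, ← add_smul, ← two_mul, mul_inv_cancel₀ h2, one_smul]
  have hdet : (Quad.wallMat Q x fun i => (2 : F)⁻¹ • x i).det = (2 : F)⁻¹ ^ Module.finrank F W * G.det := by
    rw [show Quad.wallMat Q x (fun i => (2 : F)⁻¹ • x i) = (2 : F)⁻¹ • G from Matrix.ext fun i k => by
      simp [Quad.wallMat, G, QuadraticMap.polar_smul_left], Matrix.det_smul, Fintype.card_fin]
  have hne := Quad.det_wallMat_ne_zero hQ h hli hsp hz
  rw [hdet] at hne
  refine ⟨h, G.det, hcomm, right_ne_zero_of_mul hne, discChar_eq _ b.equivFun G hform, ?_⟩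
  show Quad.invariants h = _
  refine Prod.ext ?_ ?_
  · show Multiplicative.ofAdd _ = Multiplicative.ofAdd _
    rw [Quad.finrank_mov_eq_card h hli hsp, Fintype.card_fin]
  · show Quad.spinor h = _
    rw [Quad.spinor_eq hQ h hli hsp hz, hdet]

/-- The criterion. -/
theorem goodFor_of_trivial_spinor (hQ : (polarBilin Q).Nondegenerate) (hR : Quad.reflGroup Q = ⊤) (h2 : (2 : F) ≠ 0)
    (hN : Odd (Module.finrank F V)) (g : Quad.OQ Q)
    (hP : ∀ h : Quad.OQ Q, Commute h g → (Quad.invHom hQ hR h).1 = 1 → Quad.invHom hQ hR h = 1) :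
    GoodFor (polarBilin Q) ((g : V ≃ₗ[F] V) : V →ₗ[F] V) (discChar (polarBilin Q)) := by
  intro W hW hWn hodd
  obtain ⟨h, D, hc, hD, hdW, hinv⟩ := exists_negOn hQ hR h2 g hW hWn
  have hTn : (LinearMap.BilinForm.restrict (polarBilin Q) ⊤).Nondegenerate :=
    ⟨fun u hu => Subtype.ext (hQ.1 _ fun v => hu ⟨v, trivial⟩), fun u hu => Subtype.ext (hQ.2 _ fun v => hu ⟨v, trivial⟩)⟩
  obtain ⟨z, E, hzc, hE, hdV, hzinv⟩ := exists_negOn hQ hR h2 g (W := ⊤) (fun _ _ => trivial) hTn
  have hdiscV : discChar (polarBilin Q) = quadraticChar F E := by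
    rw [← hdV]
    exact (discChar_congr (Submodule.topEquiv : (⊤ : Submodule F V) ≃ₗ[F] V) fun u v => rfl).symm
  rw [finrank_top] at hzinv
  have hpar : (Quad.invHom hQ hR (h * z)).1 = 1 := by
    rw [map_mul, hinv, hzinv]
    show Multiplicative.ofAdd _ * Multiplicative.ofAdd _ = 1
    rw [← ofAdd_add, ← Nat.cast_add, (ZMod.natCast_eq_zero_iff_even).2 (hodd.add_odd hN), ofAdd_zero]
  have h1 := congrArg Prod.snd (hP _ (hc.mul_left hzc) hpar)
  rw [map_mul, hinv, hzinv] at h1
  change Quad.sqc _ * Quad.sqc _ = 1 at h1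
  have hi : (2 : F)⁻¹ ≠ 0 := inv_ne_zero h2
  have hx := mul_ne_zero (pow_ne_zero (Module.finrank F W) hi) hD
  have hy := mul_ne_zero (pow_ne_zero (Module.finrank F V) hi) hE
  rw [← Quad.sqc_mul hx hy, Quad.sqc_eq_one_iff (mul_ne_zero hx hy), ← quadraticChar_one_iff_isSquare (mul_ne_zero hx hy),
    map_mul, map_mul, map_mul, mul_mul_mul_comm, ← map_mul _ ((2 : F)⁻¹ ^ Module.finrank F W), ← pow_add] at h1
  obtain ⟨l, hl⟩ := hodd.add_odd hN
  rw [hl, ← two_mul, mul_comm 2 l, pow_mul, quadraticChar_sq_one' (pow_ne_zero l hi), one_mul] at h1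
  rw [hdW, hdiscV]
  rcases quadraticChar_dichotomy hD with a | a <;> rcases quadraticChar_dichotomy hE with b | b <;>
    rw [a, b] at h1 ⊢ <;> norm_num at h1

end CfsgLib.ClassNumber
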